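import Mathlib.Tactic
import Mathlib.Algebra.BigOperators.Ring.Finset
import Mathlib.Data.Rat.Lemmas
import Mathlib.Data.Real.Basic

/-!
# Integer vectors of norm four with pairwise inner product three
-/

set_option autoImplicit false

namespace Cfsg.Agent.BlocksChar

variable {α : Type*} [Fintype α] [DecidableEq α]

/-- Integer vectors of norm four, pairwise inner product three and value one at a point share
three coordinates. -/
theorem sunflower (V : Finset (α → ℤ)) (o : α) (d : α → ℤ) (hdo : d o = 1) (hd : ∀ x, 0 < d x)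
    (hnorm : ∀ v ∈ V, ∑ x, v x * v x = 4)
    (hinner : ∀ v ∈ V, ∀ w ∈ V, v ≠ w → ∑ x, v x * w x = 3)
    (hone : ∀ v ∈ V, v o = 1) (horth : ∀ v ∈ V, ∑ x, v x * d x = 0)
    (h2 : 2 ≤ V.card) (h3 : V.card ≠ 3) :
    ∃ (K : Finset α) (s : α → ℤ) (e : (α → ℤ) → α) (ε : ℤ),
      o ∈ K ∧ K.card = 3 ∧ s o = 1 ∧ (∀ x ∈ K, s x = 1 ∨ s x = -1) ∧ (ε = 1 ∨ ε = -1) ∧
      (∀ v ∈ V, e v ∉ K ∧ v (e v) = ε ∧ (∀ x ∈ K, v x = s x) ∧
        ∀ x, x ∉ K → x ≠ e v → v x = 0) ∧
      ∀ v ∈ V, ∀ w ∈ V, e v = e w → v = w := by
  classical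
  -- the entries
  have hentry : ∀ v ∈ V, ∀ x, v x = 0 ∨ v x = 1 ∨ v x = -1 := by
    intro v hv x
    by_cases hx : x = o
    · subst hx; exact Or.inr (Or.inl (hone v hv))
    have h := hnorm v hv
    rw [← Finset.add_sum_erase _ _ (Finset.mem_univ o), hone v hv,
      ← Finset.add_sum_erase _ _ (Finset.mem_erase.2 ⟨hx, Finset.mem_univ x⟩)] at h
    have h0 : 0 ≤ ∑ y ∈ (Finset.univ.erase o).erase x, v y * v y :=
      Finset.sum_nonneg fun y _ => mul_self_nonneg (v y)
    have h1 : v x ≤ 1 := by nlinarith
    have h1' : -1 ≤ v x := by nlinarith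
    omega
  let supp : (α → ℤ) → Finset α := fun v => Finset.univ.filter fun x => v x ≠ 0
  have hmem : ∀ v x, x ∈ supp v ↔ v x ≠ 0 := fun v x => by simp [supp]
  have hsq : ∀ v ∈ V, ∀ x ∈ supp v, v x * v x = 1 := by
    intro v hv x hx
    rcases hentry v hv x with h | h | h <;> simp_all
  have hcard : ∀ v ∈ V, (supp v).card = 4 := by
    intro v hv
    have h := hnorm v hv
    rw [← Finset.sum_subset (Finset.subset_univ (supp v)) (fun x _ hx => by
        rw [hmem, not_not] at hx; rw [hx, mul_zero]),
      Finset.sum_congr rfl (hsq v hv), Finset.sum_const, nsmul_eq_mul, mul_one] at h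
    exact_mod_cast h
  have hinter : ∀ v ∈ V, ∀ w ∈ V, v ≠ w →
      (supp v ∩ supp w).card = 3 ∧ ∀ x ∈ supp v ∩ supp w, v x = w x := by
    intro v hv w hw hne
    have h := hinner v hv w hw hne
    rw [← Finset.sum_subset (Finset.subset_univ (supp v ∩ supp w)) (fun x _ hx => by
      rw [Finset.mem_inter, hmem, hmem, not_and_or, not_not, not_not] at hx
      rcases hx with hx | hx <;> simp [hx])] at h
    have hterm : ∀ x ∈ supp v ∩ supp w, v x * w x = 1 ∨ v x * w x = -1 := by
      intro x hx
      rw [Finset.mem_inter, hmem, hmem] at hx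
      rcases hentry v hv x with a | a | a <;> rcases hentry w hw x with b | b | b <;> simp_all
    set g := (supp v ∩ supp w).filter fun x => v x * w x = -1 with hg
    have hsum : ∑ x ∈ supp v ∩ supp w, v x * w x =
        ((supp v ∩ supp w).card : ℤ) - 2 * g.card := by
      rw [hg, Finset.card_filter, Finset.card_eq_sum_ones]
      push_cast
      rw [Finset.mul_sum, ← Finset.sum_sub_distrib]
      refine Finset.sum_congr rfl fun x hx => ?_
      rcases hterm x hx with e | e <;> simp [e]
    have hle : (supp v ∩ supp w).card ≤ 4 :=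
      (Finset.card_le_card Finset.inter_subset_left).trans (hcard v hv).le
    have h30 : (supp v ∩ supp w).card = 3 ∧ g.card = 0 := by omega
    refine ⟨h30.1, fun x hx => ?_⟩
    have hnot : ¬ v x * w x = -1 := fun e => by
      have : x ∈ g := Finset.mem_filter.2 ⟨hx, e⟩
      rw [Finset.card_eq_zero.1 h30.2] at this
      exact absurd this (Finset.notMem_empty x)
    have h1 := (hterm x hx).resolve_right hnot
    exact Int.eq_of_mul_eq_one h1
  have hsupinj : ∀ v ∈ V, ∀ w ∈ V, supp v = supp w → v = w := by
    intro v hv w hw he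
    by_contra hne
    have := (hinter v hv w hw hne).1
    rw [he, Finset.inter_self, hcard w hw] at this
    omega
  obtain ⟨A, hA, B, hB, hAB⟩ := Finset.one_lt_card.1 (show 1 < V.card by omega)
  set K := supp A ∩ supp B with hK
  have hKc : K.card = 3 := (hinter A hA B hB hAB).1
  have hoK : o ∈ K := by simp [hK, hmem, hone A hA, hone B hB]
  set U := supp A ∪ supp B with hU
  have hUc : U.card = 5 := by
    have := Finset.card_union_add_card_inter (supp A) (supp B)
    rw [← hU, ← hK, hKc, hcard A hA, hcard B hB] at this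
    omega
  have hall : ∀ C ∈ V, K ⊆ supp C := by
    by_contra hcon
    push Not at hcon
    obtain ⟨C, hC, hCK⟩ := hcon
    obtain ⟨k, hkK, hkC⟩ := Finset.not_subset.1 hCK
    have hkA : k ∈ supp A := (Finset.mem_inter.1 hkK).1
    have hkB : k ∈ supp B := (Finset.mem_inter.1 hkK).2
    have hsub : ∀ W ∈ V, k ∈ supp W → (supp W).erase k ⊆ supp C := by
      intro W hW hkW
      have hne : W ≠ C := fun e => hkC (e ▸ hkW)
      have h1 : supp W ∩ supp C = (supp W).erase k := by
        refine Finset.eq_of_subset_of_card_le (fun x hx => ?_) ?_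
        · rw [Finset.mem_inter] at hx
          exact Finset.mem_erase.2 ⟨fun e => hkC (e ▸ hx.2), hx.1⟩
        · rw [(hinter W hW C hC hne).1, Finset.card_erase_of_mem hkW, hcard W hW]
      exact h1 ▸ Finset.inter_subset_right
    have hCU : supp C = U.erase k := by
      refine (Finset.eq_of_subset_of_card_le (fun x hx => ?_) ?_).symm
      · rw [Finset.mem_erase, hU, Finset.mem_union] at hx
        rcases hx.2 with h | h
        · exact hsub A hA hkA (Finset.mem_erase.2 ⟨hx.1, h⟩)
        · exact hsub B hB hkB (Finset.mem_erase.2 ⟨hx.1, h⟩)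
      · rw [hcard C hC, Finset.card_erase_of_mem (Finset.mem_union_left _ hkA), hUc]
    have hDU : ∀ D ∈ V, supp D ⊆ U := by
      intro D hD
      by_cases hDA : D = A
      · rw [hDA]; exact Finset.subset_union_left
      by_cases hKD : K ⊆ supp D
      · intro x hx
        by_contra hxU
        have hDs : supp D = insert x K := by
          refine (Finset.eq_of_subset_of_card_le (Finset.insert_subset hx hKD) ?_).symm
          rw [hcard D hD, Finset.card_insert_of_notMem
            (fun h => hxU (Finset.mem_union_left _ (Finset.mem_inter.1 h).1)), hKc]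
        have hDC : D ≠ C := fun e => hkC (e ▸ hKD hkK)
        have h3' := (hinter D hD C hC hDC).1
        have hss : supp D ∩ supp C ⊆ K.erase k := by
          intro y hy
          rw [Finset.mem_inter, hDs, hCU, Finset.mem_insert, Finset.mem_erase] at hy
          rcases hy.1 with h | h
          · exact absurd (h ▸ hy.2.2) hxU
          · exact Finset.mem_erase.2 ⟨hy.2.1, h⟩
        have := Finset.card_le_card hss
        rw [h3', Finset.card_erase_of_mem hkK, hKc] at this
        omega
      · obtain ⟨j, hjK, hjD⟩ := Finset.not_subset.1 hKD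
        have hjA : j ∈ supp A := (Finset.mem_inter.1 hjK).1
        have hjB : j ∈ supp B := (Finset.mem_inter.1 hjK).2
        have hsubD : ∀ W ∈ V, j ∈ supp W → (supp W).erase j ⊆ supp D := by
          intro W hW hjW
          have hne : W ≠ D := fun e => hjD (e ▸ hjW)
          have h1 : supp W ∩ supp D = (supp W).erase j := by
            refine Finset.eq_of_subset_of_card_le (fun x hx => ?_) ?_
            · rw [Finset.mem_inter] at hx
              exact Finset.mem_erase.2 ⟨fun e => hjD (e ▸ hx.2), hx.1⟩
            · rw [(hinter W hW D hD hne).1, Finset.card_erase_of_mem hjW, hcard W hW]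
          exact h1 ▸ Finset.inter_subset_right
        have hsup : U.erase j ⊆ supp D := by
          intro x hx
          rw [Finset.mem_erase, hU, Finset.mem_union] at hx
          rcases hx.2 with h | h
          · exact hsubD A hA hjA (Finset.mem_erase.2 ⟨hx.1, h⟩)
          · exact hsubD B hB hjB (Finset.mem_erase.2 ⟨hx.1, h⟩)
        rw [← Finset.eq_of_subset_of_card_le hsup (by
          rw [hcard D hD, Finset.card_erase_of_mem (Finset.mem_union_left _ hjA), hUc])]
        exact Finset.erase_subset _ _
    -- every vector is the restriction of one sign vector to four of the five points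
    let s : α → ℤ := fun x => if x ∈ supp A then A x else B x
    have hagree : ∀ D ∈ V, ∀ x ∈ supp D, D x = s x := by
      intro D hD x hx
      by_cases hxA : x ∈ supp A
      · simp only [s, if_pos hxA]
        rcases eq_or_ne D A with rfl | hne
        · rfl
        · exact (hinter D hD A hA hne).2 x (Finset.mem_inter.2 ⟨hx, hxA⟩)
      · simp only [s, if_neg hxA]
        have hxB : x ∈ supp B := by
          have := hDU D hD hx
          rw [hU, Finset.mem_union] at this
          tauto
        rcases eq_or_ne D B with rfl | hne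
        · rfl
        · exact (hinter D hD B hB hne).2 x (Finset.mem_inter.2 ⟨hx, hxB⟩)
    have hdiff : ∀ D ∈ V, ∃ i, U \ supp D = {i} := fun D hD => Finset.card_eq_one.1 (by
      rw [Finset.card_sdiff_of_subset (hDU D hD), hUc, hcard D hD])
    have : Nonempty α := ⟨o⟩
    choose! miss hmiss using hdiff
    have hmissU : ∀ D ∈ V, miss D ∈ U ∧ D (miss D) = 0 := by
      intro D hD
      have h : miss D ∈ U \ supp D := hmiss D hD ▸ Finset.mem_singleton_self _
      rw [Finset.mem_sdiff, hmem, not_not] at h
      exact h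
    have hsuppD : ∀ D ∈ V, supp D = U.erase (miss D) := by
      intro D hD
      rw [Finset.erase_eq, ← hmiss D hD, sdiff_sdiff_right_self]
      exact (inf_eq_right.2 (hDU D hD)).symm
    have hmi : Set.InjOn miss V := fun D hD D' hD' he =>
      hsupinj D hD D' hD' (by rw [hsuppD D hD, hsuppD D' hD', he])
    have himg : V.image miss ⊆ U.erase o := by
      intro i hi
      obtain ⟨D, hD, rfl⟩ := Finset.mem_image.1 hi
      refine Finset.mem_erase.2 ⟨fun e => ?_, (hmissU D hD).1⟩
      have := (hmissU D hD).2
      rw [e, hone D hD] at this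
      exact one_ne_zero this
    have hoU : o ∈ U := Finset.mem_union_left _ (Finset.mem_inter.1 hoK).1
    have hVle : V.card ≤ 4 := by
      have := Finset.card_le_card himg
      rwa [Finset.card_image_of_injOn hmi, Finset.card_erase_of_mem hoU, hUc] at this
    have hVge : 3 ≤ V.card := by
      have hCA : C ≠ A := fun e => hkC (e ▸ hkA)
      have hCB : C ≠ B := fun e => hkC (e ▸ hkB)
      have hsub3 : ({A, B, C} : Finset (α → ℤ)) ⊆ V := by
        simp [Finset.insert_subset_iff, hA, hB, hC]
      have := Finset.card_le_card hsub3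
      rwa [Finset.card_insert_of_notMem (by simp [hAB, hCA.symm]),
        Finset.card_pair hCB.symm] at this
    have himgeq : V.image miss = U.erase o := Finset.eq_of_subset_of_card_le himg (by
      rw [Finset.card_image_of_injOn hmi, Finset.card_erase_of_mem hoU, hUc]; omega)
    set S := ∑ x ∈ U, s x * d x with hS
    have hval : ∀ i ∈ U.erase o, s i * d i = S := by
      intro i hi
      rw [← himgeq] at hi
      obtain ⟨D, hD, rfl⟩ := Finset.mem_image.1 hi
      have h0 := horth D hD
      rw [← Finset.sum_subset (Finset.subset_univ (supp D)) (fun x _ hx => by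
        rw [hmem, not_not] at hx; rw [hx, zero_mul]),
        Finset.sum_congr rfl (fun x hx => by rw [hagree D hD x hx]), hsuppD D hD] at h0
      rw [hS, ← Finset.add_sum_erase _ _ (hmissU D hD).1, h0, add_zero]
    have hso : s o * d o = 1 := by
      have h := hagree A hA o (Finset.mem_inter.1 hoK).1
      rw [← h, hone A hA, hdo, one_mul]
    have hfin : S = 1 + 4 * S := by
      conv_lhs => rw [hS, ← Finset.add_sum_erase _ _ hoU, hso, Finset.sum_congr rfl hval,
        Finset.sum_const, nsmul_eq_mul, Finset.card_erase_of_mem hoU, hUc]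
      norm_num
    omega
  -- the sunflower case
  have hdiff : ∀ v ∈ V, ∃ i, supp v \ K = {i} := fun v hv => Finset.card_eq_one.1 (by
    rw [Finset.card_sdiff_of_subset (hall v hv), hcard v hv, hKc])
  have : Nonempty α := ⟨o⟩
  choose! e he using hdiff
  have hee : ∀ v ∈ V, e v ∈ supp v ∧ e v ∉ K := fun v hv => by
    have h : e v ∈ supp v \ K := he v hv ▸ Finset.mem_singleton_self _
    exact Finset.mem_sdiff.1 h
  have hzero : ∀ v ∈ V, ∀ x, x ∉ K → x ≠ e v → v x = 0 := by
    intro v hv x hxK hxe
    by_contra hne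
    have h : x ∈ supp v \ K := Finset.mem_sdiff.2 ⟨(hmem v x).2 hne, hxK⟩
    rw [he v hv, Finset.mem_singleton] at h
    exact hxe h
  have hs : ∀ v ∈ V, ∀ x ∈ K, v x = A x := by
    intro v hv x hx
    rcases eq_or_ne v A with rfl | hne
    · rfl
    · exact (hinter v hv A hA hne).2 x
        (Finset.mem_inter.2 ⟨hall v hv hx, (Finset.mem_inter.1 hx).1⟩)
  have hlink : ∀ v ∈ V, v (e v) * d (e v) = -∑ x ∈ K, A x * d x := by
    intro v hv
    have h0 := horth v hv
    rw [← Finset.sum_subset (Finset.subset_univ (supp v)) (fun x _ hx => by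
        rw [hmem, not_not] at hx; rw [hx, zero_mul]),
      ← Finset.sum_sdiff (hall v hv), he v hv, Finset.sum_singleton,
      Finset.sum_congr rfl (fun x hx => by rw [hs v hv x hx])] at h0
    linarith
  have hpm : ∀ v ∈ V, v (e v) = 1 ∨ v (e v) = -1 := fun v hv =>
    (hentry v hv (e v)).resolve_left ((hmem v _).1 (hee v hv).1)
  have hsame : ∀ v ∈ V, v (e v) = A (e A) := by
    intro v hv
    have h1 := hlink v hv
    have h2 := hlink A hA
    have hp := hd (e v)
    have hq := hd (e A)
    rcases hpm v hv with a | a <;> rcases hpm A hA with b | b <;> rw [a, b] <;>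
      rw [a] at h1 <;> rw [b] at h2 <;> omega
  refine ⟨K, A, e, A (e A), hoK, hKc, hone A hA, fun x hx => ?_, hpm A hA,
    fun v hv => ⟨(hee v hv).2, hsame v hv, hs v hv, hzero v hv⟩, fun v hv w hw h => ?_⟩
  · exact (hentry A hA x).resolve_left ((hmem A x).1 (Finset.mem_inter.1 hx).1)
  · funext x
    by_cases hxK : x ∈ K
    · rw [hs v hv x hxK, hs w hw x hxK]
    · by_cases hxe : x = e v
      · rw [hxe, hsame v hv, h, hsame w hw]
      · rw [hzero v hv x hxK hxe, hzero w hw x hxK (h ▸ hxe)]

/-- The square condition from `1 + dⱼ = dₖ + dₗ` and the two column relations. -/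
theorem isSquare_of_relations {a b c : ℕ} (hb : 0 < b) (hc : 0 < c) (ha : 0 < a)
    (hdeg : 1 + a = b + c) {U V W : ℤ} (hne : V ≠ 0) (hW : W = U + V)
    (hq : (W : ℚ) ^ 2 / a = (U : ℚ) ^ 2 / b + (V : ℚ) ^ 2 / c) : IsSquare (a * b * c) := by
  have ha' : (a : ℚ) ≠ 0 := Nat.cast_ne_zero.2 ha.ne'
  have hb' : (b : ℚ) ≠ 0 := Nat.cast_ne_zero.2 hb.ne'
  have hc' : (c : ℚ) ≠ 0 := Nat.cast_ne_zero.2 hc.ne'
  have hV : (V : ℚ) ≠ 0 := Int.cast_ne_zero.2 hne
  have hdeg' : (1 : ℚ) + a = b + c := by exact_mod_cast hdeg
  rw [hW] at hq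
  push_cast at hq
  field_simp at hq
  rw [← Rat.isSquare_natCast_iff]
  refine ⟨((c : ℚ) * ((b : ℚ) - a) * U + (b : ℚ) * c * V) / V, ?_⟩
  push_cast
  field_simp
  linear_combination (-((b : ℚ) - a)) * hq + ((a : ℚ) * b * (V : ℚ) ^ 2) * hdeg'

end Cfsg.Agent.BlocksChar
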