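import Cfsg.Agent.S4720
import Cfsg.Agent.S4722
import Cfsg.Agent.S4733
import Cfsg.Agent.Brauer.Sections
import Cfsg.Agent.Brauer.Kernel
import Cfsg.Agent.Char.Linear
import Cfsg.Agent.CharInd.Kernel
import Cfsg.Agent.BlocksChar.Sunflower
import Mathlib.GroupTheory.Transfer

/-!
# An abelian Sylow subgroup with a fixed point free normaliser quotient of order three
-/

set_option autoImplicit false
set_option linter.style.haveILetI false
set_option linter.unusedSectionVars false

open Cfsg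
open scoped ComplexConjugate

namespace Cfsg.Agent.BlocksChar

universe u

variable {G : Type u} [Group G] [Finite G] {p : ℕ} [Fact p.Prime] {P : Sylow p G}

/-- The hypotheses on the Sylow subgroup. -/
structure IndexThree (P : Sylow p G) : Prop where
  comm : IsMulCommutative P
  relIndex : (Subgroup.centralizer ((P : Subgroup G) : Set G)).relIndex
    (Subgroup.normalizer ((P : Subgroup G) : Set G)) = 3
  frob : ∀ y : G, y ∈ (P : Subgroup G) → y ≠ 1 →
    Subgroup.centralizer ({y} : Set G) ⊓ Subgroup.normalizer ((P : Subgroup G) : Set G) =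
      Subgroup.centralizer ((P : Subgroup G) : Set G)

/-- The relation between linear characters of `P` conjugate under the normaliser. -/
def ConjLin (P : Sylow p G) (ψ ψ' : ↥(P : Subgroup G) →* ℂˣ) : Prop :=
  ∃ n : G, n ∈ Subgroup.normalizer ((P : Subgroup G) : Set G) ∧
    ∀ w w' : ↥(P : Subgroup G), (w' : G) = n * w * n⁻¹ → ψ' w' = ψ w

namespace IndexThree

variable (h : IndexThree P)
include h

theorem commute {a b : G} (ha : a ∈ (P : Subgroup G)) (hb : b ∈ (P : Subgroup G)) : a * b = b * a :=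
  congrArg Subtype.val (h.comm.is_comm.comm (⟨a, ha⟩ : P) ⟨b, hb⟩)

theorem fusion {x y g : G} (hx : x ∈ (P : Subgroup G)) (hy : y ∈ (P : Subgroup G))
    (hg : g * x * g⁻¹ = y) :
    ∃ n ∈ Subgroup.normalizer ((P : Subgroup G) : Set G), n * x * n⁻¹ = y := by
  haveI := h.comm
  obtain ⟨n, hn, he⟩ := P.conj_eq_normalizer_conj_of_mem x g⁻¹ hx (by rw [inv_inv, hg]; exact hy)
  rw [inv_inv, hg] at he
  exact ⟨n⁻¹, Subgroup.inv_mem _ hn, by rw [inv_inv, ← he]⟩

theorem centralizer_le_normalizer : Subgroup.centralizer ((P : Subgroup G) : Set G) ≤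
    Subgroup.normalizer ((P : Subgroup G) : Set G) := by
  intro c hc
  rw [Subgroup.mem_normalizer_iff]
  intro x
  have key : ∀ y ∈ (P : Subgroup G), c * y * c⁻¹ = y := fun y hy => by
    rw [← hc y hy, mul_inv_cancel_right]
  refine ⟨fun hx => by rw [key x hx]; exact hx, fun hx => ?_⟩
  have h3 : c * x * c⁻¹ = x := mul_left_cancel (a := c) (mul_right_cancel (b := c⁻¹) (key _ hx))
  rwa [h3] at hx

theorem pow_three_mem {n : G} (hn : n ∈ Subgroup.normalizer ((P : Subgroup G) : Set G)) :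
    n ^ 3 ∈ Subgroup.centralizer ((P : Subgroup G) : Set G) := by
  haveI : ((Subgroup.centralizer ((P : Subgroup G) : Set G)).subgroupOf
      (Subgroup.normalizer ((P : Subgroup G) : Set G))).Normal := inferInstance
  have h2 := QuotientGroup.eq_one_iff (N := (Subgroup.centralizer ((P : Subgroup G) : Set G)).subgroupOf
      (Subgroup.normalizer ((P : Subgroup G) : Set G))) (⟨n, hn⟩ ^ 3)
  refine h2.1 ?_
  rw [QuotientGroup.mk_pow]
  have h3 := pow_card_eq_one' (x := ((⟨n, hn⟩ : Subgroup.normalizer ((P : Subgroup G) : Set G)) :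
    ↥(Subgroup.normalizer ((P : Subgroup G) : Set G)) ⧸
      (Subgroup.centralizer ((P : Subgroup G) : Set G)).subgroupOf
        (Subgroup.normalizer ((P : Subgroup G) : Set G))))
  have hidx : Nat.card (↥(Subgroup.normalizer ((P : Subgroup G) : Set G)) ⧸
      (Subgroup.centralizer ((P : Subgroup G) : Set G)).subgroupOf
        (Subgroup.normalizer ((P : Subgroup G) : Set G))) = 3 := h.relIndex
  rwa [hidx] at h3

theorem mem_centralizer_of_fix {n y : G}
    (hn : n ∈ Subgroup.normalizer ((P : Subgroup G) : Set G)) (hy : y ∈ (P : Subgroup G))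
    (hy1 : y ≠ 1) (hny : n * y = y * n) : n ∈ Subgroup.centralizer ((P : Subgroup G) : Set G) := by
  rw [← h.frob y hy hy1]
  exact ⟨Subgroup.mem_centralizer_singleton_iff.2 hny, hn⟩

/-- An element of the Sylow subgroup inverted in `G` is an involution. -/
theorem sq_eq_one_of_inverted {x y : G} (hy : y ∈ (P : Subgroup G)) (hy1 : y ≠ 1)
    (hxy : x * y * x⁻¹ = y⁻¹) : y * y = 1 := by
  obtain ⟨n, hn, hny⟩ := h.fusion hy ((P : Subgroup G).inv_mem hy) hxy
  have hn2 : n ^ 2 ∈ Subgroup.centralizer ((P : Subgroup G) : Set G) := by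
    refine h.mem_centralizer_of_fix (Subgroup.pow_mem _ hn 2) hy hy1 ?_
    have h1 : n * y⁻¹ * n⁻¹ = y := by rw [← conj_inv, hny, inv_inv]
    calc n ^ 2 * y = n * (n * y * n⁻¹) * n := by simp [pow_two, mul_assoc]
      _ = n * y⁻¹ * n := by rw [hny]
      _ = (n * y⁻¹ * n⁻¹) * n ^ 2 := by group
      _ = y * n ^ 2 := by rw [h1]
  have hnC : n ∈ Subgroup.centralizer ((P : Subgroup G) : Set G) := by
    have h3 := Subgroup.mul_mem _ (h.pow_three_mem hn) (Subgroup.inv_mem _ hn2)
    rwa [show n ^ 3 * (n ^ 2)⁻¹ = n by group] at h3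
  rw [← hnC y hy, mul_inv_cancel_right] at hny
  exact mul_eq_one_iff_eq_inv.2 hny

/-- The retraction of the centraliser of `y` onto `P`. -/
theorem exists_retraction {y : G} (hy : y ∈ (P : Subgroup G)) (hy1 : y ≠ 1) :
    ∃ (A : Type u) (_ : CommGroup A) (f : ↥(Subgroup.centralizer ({y} : Set G)) →* A),
      ¬ p ∣ Nat.card f.ker ∧ f.ker.index = p ^ (Nat.card G).factorization p ∧
      (∀ z : ↥(Subgroup.centralizer ({y} : Set G)), ¬ p ∣ orderOf z → f z = 1) ∧
      ∀ w : ↥(Subgroup.centralizer ({y} : Set G)), (w : G) ∈ (P : Subgroup G) → f w = 1 →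
        w = 1 := by
  set Cy := Subgroup.centralizer ({y} : Set G) with hCy
  have hPC : (P : Subgroup G) ≤ Cy := fun w hw =>
    Subgroup.mem_centralizer_singleton_iff.2 (h.commute hw hy)
  let PC : Sylow p Cy := P.subtype hPC
  have hcoe : (PC : Subgroup Cy) = (P : Subgroup G).subgroupOf Cy := rfl
  have hN : Subgroup.normalizer ((PC : Subgroup Cy) : Set Cy) ≤
      Subgroup.centralizer ((PC : Subgroup Cy) : Set Cy) := by
    intro n hn
    have hnN : (n : G) ∈ Subgroup.normalizer ((P : Subgroup G) : Set G) := by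
      have hfin : ∀ x ∈ (P : Subgroup G), (n : G) * x * (n : G)⁻¹ ∈ (P : Subgroup G) := fun x hx =>
        (Subgroup.mem_normalizer_iff.mp hn ⟨x, hPC hx⟩).mp hx
      rw [Subgroup.mem_normalizer_iff]
      refine fun x => ⟨hfin x, fun hx => ?_⟩
      have hsurj : Function.Surjective (fun w : P => (⟨(n : G) * w * (n : G)⁻¹, hfin w w.2⟩ : P)) :=
        Finite.surjective_of_injective fun a b hab => by
          simpa using congrArg Subtype.val hab
      obtain ⟨w, hw⟩ := hsurj ⟨_, hx⟩
      have : (w : G) = x :=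
        mul_left_cancel (mul_right_cancel (congrArg Subtype.val hw : _))
      exact this ▸ w.2
    have hnC : (n : G) ∈ Subgroup.centralizer ((P : Subgroup G) : Set G) := by
      rw [← h.frob y hy hy1]; exact ⟨n.2, hnN⟩
    intro x hx
    exact Subtype.ext (hnC (x : G) hx)
  haveI : IsMulCommutative PC := ⟨⟨fun a b => Subtype.ext (Subtype.ext (h.commute a.2 b.2))⟩⟩
  have hcompl := MonoidHom.ker_transferSylow_isComplement' PC hN
  letI : CommGroup ↥(PC : Subgroup Cy) :=
    { (inferInstance : Group ↥(PC : Subgroup Cy)) with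
      mul_comm := fun a b => Subtype.ext (Subtype.ext (h.commute a.2 b.2)) }
  refine ⟨↥(PC : Subgroup Cy), inferInstance, MonoidHom.transferSylow PC hN,
    MonoidHom.not_dvd_card_ker_transferSylow PC hN, ?_, fun z hz => ?_, fun w hw hf => ?_⟩
  · rw [hcompl.symm.index_eq_card, hcoe]
    rw [Nat.card_congr (Subgroup.subgroupOfEquivOfLe hPC).toEquiv, P.card_eq_multiplicity]
  · obtain ⟨k, hk⟩ := IsPGroup.iff_orderOf.1 PC.isPGroup' (MonoidHom.transferSylow PC hN z)
    rcases Nat.eq_zero_or_pos k with h0 | h0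
    · exact orderOf_eq_one_iff.1 (by rw [hk, h0, pow_zero])
    · exact absurd ((hk ▸ dvd_pow_self p h0.ne').trans (orderOf_map_dvd _ z)) hz
  · have : w ∈ (MonoidHom.transferSylow PC hN).ker ⊓ (PC : Subgroup Cy) := ⟨hf, hw⟩
    rwa [hcompl.disjoint.eq_bot, Subgroup.mem_bot] at this

theorem lambda_eq {M : Ideal AlgInt} (hM : IsPModular p M) {y : G} (hy : y ∈ (P : Subgroup G))
    (hy1 : y ≠ 1) :
    ∑ᶠ ψ ∈ principalBlock M ↥(Subgroup.centralizer ({y} : Set G)),
      charDegree (ψ : ↥(Subgroup.centralizer ({y} : Set G)) → ℂ) ^ 2 = Nat.card P := by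
  classical
  letI := Fintype.ofFinite ↥(Subgroup.centralizer ({y} : Set G))
  haveI : Finite (IrrCharacter ↥(Subgroup.centralizer ({y} : Set G))) :=
    CharInd.finite_irrCharacter
  obtain ⟨A, _, f, hK, hidx, -, -⟩ := h.exists_retraction hy hy1
  have hs := Brauer.sum_sq_principalBlock_of_complement hM f.ker hK hidx
    (a := 1) (b := 1) f.ker.one_mem f.ker.one_mem
  rw [P.card_eq_multiplicity]
  apply Nat.cast_injective (R := ℂ)
  rw [Nat.cast_finsum_mem (Set.toFinite _), ← hs]
  refine finsum_mem_congr rfl fun ψ _ => ?_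
  rw [← charDegree_eq, Complex.conj_natCast, pow_two, Nat.cast_mul]

/-- On the section of `y` the principal block is constant. -/
theorem value_eq {M : Ideal AlgInt} (hM : IsPModular p M) {χ : IrrCharacter G}
    (hχ : χ ∈ principalBlock M G) {z y : G} (hzy : IsPPart p z y) (hy : y ∈ (P : Subgroup G))
    (hy1 : y ≠ 1) : (χ : G → ℂ) z = (χ : G → ℂ) y := by
  letI := Fintype.ofFinite G
  obtain ⟨w, hyw, hcomm, ⟨k, hk⟩, hw⟩ := hzy
  obtain ⟨A, _, f, hK, -, hreg, -⟩ := h.exists_retraction hy hy1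
  let Cy := Subgroup.centralizer ({y} : Set G)
  have hwC : w ∈ Subgroup.centralizer ({y} : Set G) :=
    Subgroup.mem_centralizer_singleton_iff.2 hcomm.eq.symm
  rw [← hyw]
  refine Brauer.principalBlock_apply_mul hM hk (f.ker.map Cy.subtype) (Subgroup.map_subtype_le _)
    ?_ ?_ hχ ⟨⟨w, hwC⟩, MonoidHom.mem_ker.2 (hreg _ (by rwa [Subgroup.orderOf_mk])), rfl⟩
  · rintro c hc _ ⟨v, hv, rfl⟩
    exact ⟨⟨c, hc⟩ * v * ⟨c, hc⟩⁻¹, (inferInstance : f.ker.Normal).conj_mem v hv _, rfl⟩
  · rwa [Subgroup.card_map_of_injective Cy.subtype_injective]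

/-- Stabilisers of non-trivial linear characters. -/
theorem stab {ψ : ↥(P : Subgroup G) →* ℂˣ} (hψ : ψ ≠ 1) {n : G}
    (hn : n ∈ Subgroup.normalizer ((P : Subgroup G) : Set G)) :
    (∀ w w' : ↥(P : Subgroup G), (w' : G) = n * w * n⁻¹ → ψ w' = ψ w) ↔
      n ∈ Subgroup.centralizer ((P : Subgroup G) : Set G) := by
  constructor
  · intro hfix
    by_contra hnC
    let γ : ↥(P : Subgroup G) → ↥(P : Subgroup G) := fun w =>
      ⟨n * w * n⁻¹ * (w : G)⁻¹, (P : Subgroup G).mul_mem
        ((Subgroup.mem_normalizer_iff.1 hn (w : G)).1 w.2) ((P : Subgroup G).inv_mem w.2)⟩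
    have hinj : Function.Injective γ := by
      intro a b hab
      have hab' : n * a * n⁻¹ * (a : G)⁻¹ = n * b * n⁻¹ * (b : G)⁻¹ := congrArg Subtype.val hab
      by_contra hne
      refine hnC (h.mem_centralizer_of_fix hn
        ((P : Subgroup G).mul_mem ((P : Subgroup G).inv_mem b.2) a.2) ?_ ?_)
      · exact fun e => hne (Subtype.ext (inv_mul_eq_one.1 e).symm)
      · have hba : n * b * n⁻¹ ∈ (P : Subgroup G) := (Subgroup.mem_normalizer_iff.1 hn (b : G)).1 b.2
        have h1 : n * ((b : G)⁻¹ * a) * n⁻¹ = (b : G)⁻¹ * a := by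
          calc n * ((b : G)⁻¹ * a) * n⁻¹
              = (n * b * n⁻¹)⁻¹ * (n * a * n⁻¹ * (a : G)⁻¹) * a := by group
            _ = (n * b * n⁻¹)⁻¹ * (n * b * n⁻¹ * (b : G)⁻¹) * a := by rw [hab']
            _ = _ := by group
        exact mul_inv_eq_iff_eq_mul.1 h1
    have hsurj := Finite.surjective_of_injective hinj
    refine hψ (MonoidHom.ext fun v => ?_)
    obtain ⟨w, rfl⟩ := hsurj v
    have hw := hfix w ⟨n * w * n⁻¹, (Subgroup.mem_normalizer_iff.1 hn (w : G)).1 w.2⟩ rfl
    have e : γ w = ⟨n * w * n⁻¹, (Subgroup.mem_normalizer_iff.1 hn (w : G)).1 w.2⟩ * w⁻¹ := rfl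
    rw [e, map_mul, hw, map_inv, mul_inv_cancel, MonoidHom.one_apply]
  · intro hc w w' hw'
    have : w' = w := Subtype.ext (by rw [hw', ← hc (w : G) w.2, mul_inv_cancel_right])
    rw [this]

end IndexThree

end Cfsg.Agent.BlocksChar
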