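import Cfsg.Agent.BlocksChar.IndexThreeLinear
import Cfsg.Agent.BlocksChar.Sunflower
import Cfsg.Agent.S4733
import Cfsg.Agent.Block.SecondMain

/-!
# Decomposition of the principal block for an index three Frobenius normaliser
-/

set_option autoImplicit false
set_option linter.style.haveILetI false
set_option linter.unusedSectionVars false
set_option maxHeartbeats 400000

open Cfsg
open scoped ComplexConjugate

namespace Cfsg.Agent.BlocksChar

universe u

variable {G : Type u} [Group G] [Finite G] {p : ℕ} [Fact p.Prime] {P : Sylow p G}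

/-- The multiplicity of `1 - ψ` in `χ`, as an integer. -/
noncomputable def oneSubInt (P : Sylow p G) (ψ : ↥(P : Subgroup G) →* ℂˣ) (χ : IrrCharacter G) :
    ℤ :=
  (exists_int_oneSubMult (P := P) ψ χ).choose

theorem oneSubInt_spec (ψ : ↥(P : Subgroup G) →* ℂˣ) (χ : IrrCharacter G) :
    oneSubMult P ψ (χ : G → ℂ) = (oneSubInt P ψ χ : ℂ) :=
  (exists_int_oneSubMult (P := P) ψ χ).choose_spec

theorem oneSubInt_one (χ : IrrCharacter G) : oneSubInt P 1 χ = 0 := by
  apply Int.cast_injective (α := ℂ)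
  rw [← oneSubInt_spec]
  simp [oneSubMult]

namespace IndexThree

variable (h : IndexThree P)
include h

theorem commute_sub (a b : ↥(P : Subgroup G)) : a * b = b * a :=
  Subtype.ext (h.commute a.2 b.2)

theorem card_linear : Nat.card (↥(P : Subgroup G) →* ℂˣ) = Nat.card P := by
  have hcomm : commutator ↥(P : Subgroup G) = ⊥ := (commutator_eq_bot_iff_center_eq_top _).2
    (eq_top_iff.2 fun a _ => Subgroup.mem_center_iff.2 fun b => h.commute_sub b a)
  rw [Char.card_monoidHom_complex, hcomm, Subgroup.index_bot]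

/-- The value of a character on the Sylow subgroup from the multiplicities. -/
theorem apply_eq_neg_sum [Fintype (↥(P : Subgroup G) →* ℂˣ)] (χ : IrrCharacter G)
    {y : ↥(P : Subgroup G)} (hy : y ≠ 1) :
    (χ : G → ℂ) y = -∑ ψ : ↥(P : Subgroup G) →* ℂˣ, (oneSubInt P ψ χ : ℂ) * (ψ y : ℂ) := by
  classical
  letI := Fintype.ofFinite (P : Subgroup G)
  have hq0 : (Nat.card P : ℂ) ≠ 0 := Nat.cast_ne_zero.2 Nat.card_pos.ne'
  simp only [← oneSubInt_spec, oneSubMult, finsum_eq_sum_of_fintype, Finset.mul_sum,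
    Finset.sum_mul]
  rw [Finset.sum_comm]
  have key : ∀ z : ↥(P : Subgroup G), ∑ ψ : ↥(P : Subgroup G) →* ℂˣ,
      (Nat.card P : ℂ)⁻¹ * ((χ : G → ℂ) z * (1 - (ψ z⁻¹ : ℂ))) * (ψ y : ℂ) =
      if z = y then -(χ : G → ℂ) z else 0 := by
    intro z
    have h2 : ∀ ψ : ↥(P : Subgroup G) →* ℂˣ, (1 - (ψ z⁻¹ : ℂ)) * (ψ y : ℂ) =
        (ψ y : ℂ) - (ψ (z⁻¹ * y) : ℂ) := fun ψ => by
      rw [map_mul, Units.val_mul]; ring
    simp only [mul_assoc, h2, ← Finset.mul_sum, Finset.sum_sub_distrib]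
    rw [sum_linear h.commute_sub, sum_linear h.commute_sub, if_neg hy]
    by_cases hzy : z = y
    · rw [if_pos (by simp [hzy]), if_pos hzy]
      field_simp
      ring
    · rw [if_neg (fun e => hzy (inv_mul_eq_one.1 e)), if_neg hzy]
      ring
  rw [Finset.sum_congr rfl fun z _ => key z, Finset.sum_ite_eq']
  simp

variable {M : Ideal AlgInt}

theorem inner_int (hM : IsPModular p M) (hP1 : Nat.card P ≠ 1) [Fintype (principalBlock M G)]
    {ψ ψ' : ↥(P : Subgroup G) →* ℂˣ} (hψ : ψ ≠ 1) (hψ' : ψ' ≠ 1) [Decidable (ConjLin P ψ ψ')] :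
    ∑ χ : principalBlock M G, oneSubInt P ψ χ * oneSubInt P ψ' χ =
      if ConjLin P ψ ψ' then 4 else 3 := by
  apply Int.cast_injective (α := ℂ)
  have hs := h.sum_oneSubMult_pair hM hP1 hψ hψ'
  rw [← finsum_set_coe_eq_finsum_mem, finsum_eq_sum_of_fintype] at hs
  simp only [oneSubInt_spec, map_intCast] at hs
  push_cast
  rw [hs]
  split_ifs <;> norm_num

theorem eq_iff_conjLin (hM : IsPModular p M) (hP1 : Nat.card P ≠ 1) [Fintype (principalBlock M G)]
    {ψ ψ' : ↥(P : Subgroup G) →* ℂˣ} (hψ : ψ ≠ 1) (hψ' : ψ' ≠ 1) :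
    ((fun χ => oneSubInt P ψ χ : principalBlock M G → ℤ) = fun χ : principalBlock M G => oneSubInt P ψ' χ) ↔
      ConjLin P ψ ψ' := by
  classical
  have h11 := h.inner_int hM hP1 hψ hψ
  have h22 := h.inner_int hM hP1 hψ' hψ'
  have h12 := h.inner_int hM hP1 hψ hψ'
  rw [if_pos (conjLin_refl ψ)] at h11
  rw [if_pos (conjLin_refl ψ')] at h22
  constructor
  · intro e
    by_contra hne
    rw [if_neg hne] at h12
    have e' : ∀ χ : principalBlock M G, oneSubInt P ψ χ = oneSubInt P ψ' χ := fun χ => congrFun e χ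
    simp only [← e', h11] at h12
    omega
  · intro hrel
    rw [if_pos hrel] at h12
    have h0 : ∑ χ : principalBlock M G,
        (oneSubInt P ψ χ - oneSubInt P ψ' χ) * (oneSubInt P ψ χ - oneSubInt P ψ' χ) = 0 := by
      simp only [sub_mul, mul_sub, Finset.sum_sub_distrib, h11, h22, h12,
        mul_comm (oneSubInt P ψ' _) (oneSubInt P ψ _)]
      norm_num
    funext χ
    have := (Finset.sum_eq_zero_iff_of_nonneg fun χ _ => mul_self_nonneg _).1 h0 χ
      (Finset.mem_univ χ)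
    exact sub_eq_zero.1 (mul_self_eq_zero.1 this)

theorem sum_degree_eq_zero (hM : IsPModular p M) [Fintype (principalBlock M G)]
    (ψ : ↥(P : Subgroup G) →* ℂˣ) :
    ∑ χ : principalBlock M G,
      oneSubInt P ψ χ * (charDegree ((χ : IrrCharacter G) : G → ℂ) : ℤ) = 0 := by
  have hs := sum_oneSubMult_mul (principalBlock M G) ψ (fun χ => (charDegree (χ : G → ℂ) : ℂ))
    (fun w hw => by
      refine Eq.trans ?_ (sum_principal_conj_eq_zero hM w (1 : G) (fun hc => by
        rw [(Element.pPart_eq_one (Fact.out : p.Prime) (g := (1 : G)) (by simp)).1,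
          isConj_one_left] at hc
        apply hw
        rw [show w = 1 from Subtype.ext hc]; simp))
      refine finsum_mem_congr rfl fun χ _ => ?_
      rw [← charDegree_eq, Complex.conj_natCast])
  rw [← finsum_set_coe_eq_finsum_mem, finsum_eq_sum_of_fintype] at hs
  simp only [oneSubInt_spec] at hs
  apply Int.cast_injective (α := ℂ)
  push_cast
  exact hs

/-- A member of the principal block orthogonal to all the `1 - ψ` is trivial. -/
theorem eq_trivial_of_forall_eq_zero (hM : IsPModular p M) {χ : IrrCharacter G}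
    (hχ : χ ∈ principalBlock M G)
    (h0 : ∀ ψ : ↥(P : Subgroup G) →* ℂˣ, oneSubInt P ψ χ = 0) : χ = Char.trivialIrr G := by
  haveI : Finite (↥(P : Subgroup G) →* ℂˣ) := Char.monoidHom_complex_finite
  letI := Fintype.ofFinite (↥(P : Subgroup G) →* ℂˣ)
  haveI : M.IsPrime := hM.2.1.isPrime
  letI := Fintype.ofFinite G
  have hp : p.Prime := Fact.out
  have hv : ∀ z : G, p ∣ orderOf z → (χ : G → ℂ) z = 0 := by
    intro z hz
    obtain ⟨c, hc⟩ := exists_conj_mem_sylow P (Element.orderOf_pPart_eq_pow hp z)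
    rw [← Char.irr_isClassFunction χ.2 z c]
    have hpp := Block.isPPart_pPart hp (c * z * c⁻¹)
    rw [(Element.pPart_conj hp c z).1] at hpp
    have hne : c * Element.pPart p z * c⁻¹ ≠ 1 := by
      intro e1
      have h1 : Element.pPart p z = 1 := conj_eq_one_iff.1 e1
      have h2 := Element.pPart_mul_pComplPart p z
      rw [h1, one_mul] at h2
      rw [← h2] at hz
      exact (Nat.Prime.coprime_iff_not_dvd hp).1
        (Element.coprime_orderOf_pComplPart hp z).symm hz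
    rw [h.value_eq hM hχ hpp hc hne,
      show c * Element.pPart p z * c⁻¹ = ((⟨_, hc⟩ : ↥(P : Subgroup G)) : G) from rfl,
      h.apply_eq_neg_sum χ (fun e => hne (congrArg Subtype.val e))]
    simp [h0]
  have hdeg := S4733.pPart_dvd_of_vanish χ hv
  have hsub : blockOf M (χ : G → ℂ) ⊆ {χ} := by
    refine Block.blockOf_subset_of_memLocalRing (fun g => ?_) rfl
    rw [blockCoeff, finsum_mem_singleton, ← mul_assoc, ← charDegree_eq, inv_mul_eq_div]
    refine (Block.localRing M).mul_mem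
      ((Block.memLocalRing_natCast_div_iff hM (charDegree_pos _).ne' Nat.card_pos.ne').2 hdeg) ?_
    rw [← Char.irr_inv χ.2]
    exact Block.char_memLocalRing χ.2 _
  exact (hsub (Block.sameBlock_symm hχ) : Char.trivialIrr G = χ).symm

theorem exists_decomp (hM : IsPModular p M) (hq : 4 < Nat.card P)
    [Fintype (principalBlock M G)] :
    ∃ (K : Finset (principalBlock M G)) (s : principalBlock M G → ℤ)
      (e : (↥(P : Subgroup G) →* ℂˣ) → principalBlock M G) (ε : ℤ)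
      (o : principalBlock M G),
      (o : IrrCharacter G) = Char.trivialIrr G ∧ o ∈ K ∧ K.card = 3 ∧ s o = 1 ∧
      (∀ x ∈ K, s x = 1 ∨ s x = -1) ∧ (ε = 1 ∨ ε = -1) ∧
      (∀ ψ, ψ ≠ 1 → e ψ ∉ K ∧ oneSubInt P ψ (e ψ) = ε ∧ (∀ x ∈ K, oneSubInt P ψ x = s x) ∧
        ∀ x, x ∉ K → x ≠ e ψ → oneSubInt P ψ x = 0) ∧
      (∀ ψ ψ', ψ ≠ 1 → ψ' ≠ 1 → (e ψ = e ψ' ↔ ConjLin P ψ ψ')) ∧
      (∀ χ, χ ∈ K ∨ ∃ ψ, ψ ≠ 1 ∧ e ψ = χ) ∧
      3 * Nat.card {x : principalBlock M G // ∃ ψ, ψ ≠ 1 ∧ e ψ = x} = Nat.card P - 1 := by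
  classical
  have hp : p.Prime := Fact.out
  haveI : Finite (↥(P : Subgroup G) →* ℂˣ) := Char.monoidHom_complex_finite
  letI := Fintype.ofFinite (↥(P : Subgroup G) →* ℂˣ)
  have hP1 : Nat.card P ≠ 1 := by omega
  letI := Fintype.ofFinite G
  haveI : M.IsPrime := hM.2.1.isPrime
  have hmem : Char.trivialIrr G ∈ principalBlock M G :=
    Block.mem_blockOf_self (M := M) (Char.trivialIrr G)
  obtain ⟨o, ho⟩ : ∃ o : principalBlock M G, (o : IrrCharacter G) = Char.trivialIrr G :=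
    ⟨⟨Char.trivialIrr G, hmem⟩, rfl⟩
  let v : (↥(P : Subgroup G) →* ℂˣ) → principalBlock M G → ℤ := fun ψ χ => oneSubInt P ψ χ
  set Ψ := (Finset.univ : Finset (↥(P : Subgroup G) →* ℂˣ)).erase 1 with hΨ
  set V := Ψ.image v with hV
  have hmemΨ : ∀ ψ, ψ ∈ Ψ ↔ ψ ≠ 1 := fun ψ => by simp [hΨ]
  have hmemV : ∀ w, w ∈ V ↔ ∃ ψ, ψ ≠ 1 ∧ v ψ = w := fun w => by simp [hV, hmemΨ]
  have heq : ∀ ψ ψ', ψ ≠ 1 → ψ' ≠ 1 → (v ψ = v ψ' ↔ ConjLin P ψ ψ') :=
    fun ψ ψ' h1 h2 => h.eq_iff_conjLin hM hP1 h1 h2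
  have hVcard : 3 * V.card = Nat.card P - 1 := by
    have hs := Finset.card_eq_sum_card_image v Ψ
    rw [Finset.sum_congr rfl (g := fun _ => 3) (fun b hb => by
      obtain ⟨ψ, hψ, rfl⟩ := Finset.mem_image.1 hb
      rw [hmemΨ] at hψ
      rw [← h.card_orbit hψ]
      refine congrArg Finset.card ?_
      ext ψ'
      simp only [Finset.mem_filter, hmemΨ, Finset.mem_univ, true_and]
      exact ⟨fun ⟨h1, h2⟩ => (heq ψ ψ' hψ h1).1 h2.symm,
        fun h1 => ⟨h1.ne_one hψ, ((heq ψ ψ' hψ (h1.ne_one hψ)).2 h1).symm⟩⟩),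
      Finset.sum_const, smul_eq_mul, ← hV, hΨ, Finset.card_erase_of_mem (Finset.mem_univ _),
      Finset.card_univ, ← Nat.card_eq_fintype_card, h.card_linear] at hs
    omega
  have hV3 : V.card ≠ 3 := by
    intro h3
    obtain ⟨a, ha⟩ := IsPGroup.iff_card.1 P.isPGroup'
    have h10 : p ^ a = 10 := by rw [← ha]; change Nat.card P = 10; omega
    have h2 : p = 2 := ((Nat.prime_dvd_prime_iff_eq Nat.prime_two hp).1
      (Nat.prime_two.dvd_of_dvd_pow (n := a) (h10 ▸ by norm_num))).symm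
    have h5 : p = 5 := ((Nat.prime_dvd_prime_iff_eq Nat.prime_five hp).1
      (Nat.prime_five.dvd_of_dvd_pow (n := a) (h10 ▸ by norm_num))).symm
    omega
  obtain ⟨K, s, e, ε, hoK, hK, hso, hs, hε, hev, hinj⟩ :=
    sunflower V o (fun χ => (charDegree ((χ : IrrCharacter G) : G → ℂ) : ℤ))
      (by simp [ho, Char.trivialIrr, charDegree])
      (fun χ => by exact_mod_cast charDegree_pos (χ : IrrCharacter G))
      (fun w hw => by
        obtain ⟨ψ, hψ, rfl⟩ := (hmemV w).1 hw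
        exact (h.inner_int hM hP1 hψ hψ).trans (if_pos (conjLin_refl ψ)))
      (fun w hw w' hw' hne => by
        obtain ⟨ψ, hψ, rfl⟩ := (hmemV w).1 hw
        obtain ⟨ψ', hψ', rfl⟩ := (hmemV w').1 hw'
        exact (h.inner_int hM hP1 hψ hψ').trans (if_neg fun hc => hne ((heq ψ ψ' hψ hψ').2 hc)))
      (fun w hw => by
        obtain ⟨ψ, hψ, rfl⟩ := (hmemV w).1 hw
        apply Int.cast_injective (α := ℂ)
        simp only [v, ho, ← oneSubInt_spec, Int.cast_one]
        exact oneSubMult_trivial hψ)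
      (fun w hw => by
        obtain ⟨ψ, hψ, rfl⟩ := (hmemV w).1 hw
        exact h.sum_degree_eq_zero hM ψ)
      (by omega) hV3
  have hvmem : ∀ ψ, ψ ≠ 1 → v ψ ∈ V := fun ψ hψ => (hmemV _).2 ⟨ψ, hψ, rfl⟩
  refine ⟨K, s, fun ψ => e (v ψ), ε, o, ho, hoK, hK, hso, hs, hε,
    fun ψ hψ => hev _ (hvmem ψ hψ), fun ψ ψ' h1 h2 => ?_, fun χ => ?_, ?_⟩
  · rw [← heq ψ ψ' h1 h2]
    exact ⟨fun he => hinj _ (hvmem ψ h1) _ (hvmem ψ' h2) he, fun he => congrArg e he⟩
  · by_contra hcon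
    push Not at hcon
    have h0 : ∀ ψ, oneSubInt P ψ χ = 0 := by
      intro ψ
      rcases eq_or_ne ψ 1 with rfl | hψ
      · exact oneSubInt_one _
      · exact (hev _ (hvmem ψ hψ)).2.2.2 χ hcon.1 (Ne.symm (hcon.2 ψ hψ))
    have : χ = o := Subtype.ext ((h.eq_trivial_of_forall_eq_zero hM χ.2 h0).trans ho.symm)
    exact hcon.1 (this ▸ hoK)
  · rw [← hVcard, ← Finset.card_image_of_injOn (f := e) (s := V)
      (fun w hw w' hw' he => hinj w hw w' hw' he), ← Nat.card_eq_finsetCard]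
    congr 1
    refine Nat.card_congr (Equiv.subtypeEquivRight fun x => ?_)
    rw [Finset.mem_image]
    constructor
    · rintro ⟨ψ, hψ, rfl⟩
      exact ⟨_, hvmem ψ hψ, rfl⟩
    · rintro ⟨w, hw, rfl⟩
      obtain ⟨ψ, hψ, rfl⟩ := (hmemV w).1 hw
      exact ⟨ψ, hψ, rfl⟩

end IndexThree

end Cfsg.Agent.BlocksChar
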