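import Cfsg.Agent.BlocksChar.IndexThreeBlock
import Cfsg.Agent.S4722

/-!
# An involution and the relations of an index three principal block
-/

set_option autoImplicit false
set_option linter.style.haveILetI false
set_option linter.unusedSectionVars false

open Cfsg
open scoped ComplexConjugate Pointwise

namespace Cfsg.Agent.BlocksChar

universe u

/-- Character values at involutions are integers. -/
theorem exists_int_of_orderOf_two {G : Type u} [Group G] [Finite G] (χ : IrrCharacter G) {t : G}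
    (ht : orderOf t = 2) : ∃ n : ℤ, (χ : G → ℂ) t = n := by
  obtain ⟨χf, m, ρ, hρ, rfl⟩ := χ
  obtain ⟨ε, hε, hpow⟩ := Char.exists_character_eq_sum_roots ρ t
  have h := hpow 1
  simp only [pow_one] at h
  have hint : ∀ i, ∃ n : ℤ, ε i = n := fun i => by
    have h2 := hε i
    rw [ht, pow_two, mul_self_eq_one_iff] at h2
    rcases h2 with e | e
    · exact ⟨1, by simp [e]⟩
    · exact ⟨-1, by simp [e]⟩
  choose n hn using hint
  exact ⟨∑ i, n i, by simp only [h]; push_cast; exact Finset.sum_congr rfl fun i _ => hn i⟩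

/-- The subgroup generated by a few commuting involutions is small. -/
theorem card_closure_le_two_pow {P : Type u} [Group P] [Finite P]
    (hc : ∀ a b : P, a * b = b * a) (s : Finset P) (hs : ∀ a ∈ s, a * a = 1) :
    Nat.card (Subgroup.closure (s : Set P)) ≤ 2 ^ s.card := by
  classical
  induction s using Finset.induction_on with
  | empty => simp
  | insert a s ha ih =>
    have h1 : Subgroup.closure ((insert a s : Finset P) : Set P) =
        Subgroup.zpowers a ⊔ Subgroup.closure (s : Set P) := by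
      rw [Finset.coe_insert, Set.insert_eq, Subgroup.closure_union, Subgroup.zpowers_eq_closure]
    haveI : (Subgroup.closure (s : Set P)).Normal :=
      ⟨fun n hn g => by rwa [hc g n, mul_inv_cancel_right]⟩
    rw [h1, Finset.card_insert_of_notMem ha, pow_succ, mul_comm]
    calc Nat.card ↥(Subgroup.zpowers a ⊔ Subgroup.closure (s : Set P))
        = Nat.card ↥((Subgroup.zpowers a : Set P) * (Subgroup.closure (s : Set P) : Set P) : Set P) := by
          rw [← Subgroup.mul_normal]; rfl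
      _ ≤ Nat.card (Subgroup.zpowers a) * Nat.card (Subgroup.closure (s : Set P)) :=
          Set.natCard_mul_le
      _ ≤ 2 * 2 ^ s.card := by
          refine Nat.mul_le_mul ?_ (ih fun b hb => hs b (Finset.mem_insert_of_mem hb))
          rw [Nat.card_zpowers]
          exact Nat.le_of_dvd two_pos
            (orderOf_dvd_iff_pow_eq_one.2 (by rw [pow_two, hs a (Finset.mem_insert_self a s)]))

variable {G : Type u} [Group G] [Finite G] {p : ℕ} [Fact p.Prime] {P : Sylow p G}

/-- The subgroup of `P` generated by the conjugates of `t` in it. -/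
def conjSpan (P : Sylow p G) (t : G) : Subgroup ↥(P : Subgroup G) :=
  Subgroup.closure {x : ↥(P : Subgroup G) | IsConj t (x : G)}

namespace IndexThree

variable (h : IndexThree P)
include h

open scoped Classical in
theorem card_conj_le [Fintype ↥(P : Subgroup G)] (t : G) :
    (Finset.univ.filter fun x : ↥(P : Subgroup G) => IsConj t (x : G)).card ≤ 3 := by
  rcases (Finset.univ.filter fun x : ↥(P : Subgroup G) => IsConj t (x : G)).eq_empty_or_nonempty
    with h0 | ⟨x₀, hx₀⟩
  · rw [h0]; simp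
  letI := Fintype.ofFinite ↥(Subgroup.normalizer ((P : Subgroup G) : Set G))
  have hmem : ∀ x : ↥(Subgroup.normalizer ((P : Subgroup G) : Set G)),
      (x : G) * (x₀ : G) * (x : G)⁻¹ ∈ (P : Subgroup G) := fun x =>
    (Subgroup.mem_normalizer_iff.1 x.2 (x₀ : G)).1 x₀.2
  have hsub : (Finset.univ.filter fun x : ↥(P : Subgroup G) => IsConj t (x : G)) ⊆
      Finset.univ.image fun x : ↥(Subgroup.normalizer ((P : Subgroup G) : Set G)) =>
        (⟨(x : G) * (x₀ : G) * (x : G)⁻¹, hmem x⟩ : ↥(P : Subgroup G)) := by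
    intro x hx
    obtain ⟨g, hg⟩ := isConj_iff.1 ((Finset.mem_filter.1 hx₀).2.symm.trans
      (Finset.mem_filter.1 hx).2)
    obtain ⟨m, hm, hmx⟩ := h.fusion x₀.2 x.2 hg
    exact Finset.mem_image.2 ⟨⟨m, hm⟩, Finset.mem_univ _, Subtype.ext hmx⟩
  refine (Finset.card_le_card hsub).trans ?_
  have hb := Finset.mul_card_image_le_card
    (Finset.univ : Finset ↥(Subgroup.normalizer ((P : Subgroup G) : Set G)))
    (Nat.card ↥(Subgroup.centralizer ((P : Subgroup G) : Set G)))
    (f := fun x : ↥(Subgroup.normalizer ((P : Subgroup G) : Set G)) =>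
      (⟨(x : G) * (x₀ : G) * (x : G)⁻¹, hmem x⟩ : ↥(P : Subgroup G)))
    (fun b hb => by
      obtain ⟨m, -, rfl⟩ := Finset.mem_image.1 hb
      rw [← Nat.card_eq_finsetCard]
      refine Nat.card_le_card_of_injective
        (fun c : ↥(Subgroup.centralizer ((P : Subgroup G) : Set G)) =>
          (⟨m * ⟨(c : G), h.centralizer_le_normalizer c.2⟩, ?_⟩ :
            {x // x ∈ Finset.filter _ Finset.univ})) ?_
      · refine Finset.mem_filter.2 ⟨Finset.mem_univ _, Subtype.ext ?_⟩
        have hc := (c.2 (x₀ : G) x₀.2 : (x₀ : G) * c = c * x₀)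
        calc ((m : G) * (c : G)) * (x₀ : G) * ((m : G) * (c : G))⁻¹
            = (m : G) * ((c : G) * x₀ * (c : G)⁻¹) * (m : G)⁻¹ := by group
          _ = _ := by rw [← hc, mul_inv_cancel_right]
      · intro a b hab
        exact Subtype.ext (congrArg
          (fun z : ↥(Subgroup.normalizer ((P : Subgroup G) : Set G)) => (z : G))
          (mul_left_cancel (congrArg Subtype.val hab))))
  rw [Finset.card_univ, ← Nat.card_eq_fintype_card, h.card_normalizer, mul_comm] at hb
  exact Nat.le_of_mul_le_mul_right hb Nat.card_pos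

theorem exists_linear (hq : 4 < Nat.card P) {m : ℕ} (hm : 3 * m = Nat.card P - 1) {t : G}
    (ht : orderOf t = 2) :
    ∃ ψ : ↥(P : Subgroup G) →* ℂˣ, ψ ≠ 1 ∧
      ∀ w ∈ conjSpan P t, (ψ w⁻¹ : ℂ) = 1 := by
  classical
  have hp : p.Prime := Fact.out
  letI := Fintype.ofFinite ↥(P : Subgroup G)
  set T := Finset.univ.filter fun x : ↥(P : Subgroup G) => IsConj t (x : G) with hT
  have hW : conjSpan P t = Subgroup.closure (T : Set ↥(P : Subgroup G)) := by
    rw [conjSpan, hT, Finset.coe_filter]; simp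
  have hWlt : Nat.card (conjSpan P t) < Nat.card P := by
    rw [hW]
    rcases T.eq_empty_or_nonempty with h0 | ⟨x, hx⟩
    · rw [h0, Finset.coe_empty, Subgroup.closure_empty, Subgroup.card_bot]; omega
    obtain ⟨c, hc⟩ := isConj_iff.1 (Finset.mem_filter.1 hx).2
    obtain ⟨k, hk⟩ := IsPGroup.iff_orderOf.1 P.isPGroup' x
    rw [← Subgroup.orderOf_coe, ← hc, ← MulAut.conj_apply, MulEquiv.orderOf_eq, ht] at hk
    have h2 : p = 2 := by
      rcases Nat.eq_zero_or_pos k with h0 | h0
      · rw [h0, pow_zero] at hk; omega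
      · exact (Nat.prime_dvd_prime_iff_eq hp Nat.prime_two).1 (hk ▸ dvd_pow_self p h0.ne')
    subst h2
    obtain ⟨a, ha⟩ := IsPGroup.iff_card.1 P.isPGroup'
    have hle : Nat.card (Subgroup.closure (T : Set ↥(P : Subgroup G))) ≤ 2 ^ T.card :=
      card_closure_le_two_pow (fun a b => h.commute_sub a b) T fun x hx => by
        obtain ⟨c, hc⟩ := isConj_iff.1 (Finset.mem_filter.1 hx).2
        refine Subtype.ext ?_
        rw [Subgroup.coe_mul, ← hc]
        calc c * t * c⁻¹ * (c * t * c⁻¹) = c * (t * t) * c⁻¹ := by group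
          _ = _ := by rw [← pow_two, orderOf_dvd_iff_pow_eq_one.1 ht.dvd]; simp
    have hle8 := hle.trans (Nat.pow_le_pow_right two_pos (h.card_conj_le t))
    have hcard : Nat.card P = 2 ^ a := ha
    have ha4 : 4 ≤ a := by
      by_contra hlt
      rcases (show a = 0 ∨ a = 1 ∨ a = 2 ∨ a = 3 by omega) with rfl | rfl | rfl | rfl <;>
        norm_num at hcard <;> omega
    have := Nat.pow_le_pow_right two_pos ha4
    omega
  haveI : (conjSpan P t).Normal := ⟨fun w hw g => by
    rwa [h.commute_sub g w, mul_inv_cancel_right]⟩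
  letI : CommGroup (↥(P : Subgroup G) ⧸ conjSpan P t) :=
    { (inferInstance : Group (↥(P : Subgroup G) ⧸ conjSpan P t)) with
      mul_comm := fun a b => by
        obtain ⟨a, rfl⟩ := QuotientGroup.mk_surjective a
        obtain ⟨b, rfl⟩ := QuotientGroup.mk_surjective b
        rw [← QuotientGroup.mk_mul, ← QuotientGroup.mk_mul, h.commute_sub a b] }
  obtain ⟨y, hy⟩ : ∃ y : ↥(P : Subgroup G), y ∉ conjSpan P t := by
    by_contra hc
    push Not at hc
    rw [(Subgroup.eq_top_iff' (conjSpan P t)).2 hc, Subgroup.card_top] at hWlt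
    exact lt_irrefl _ hWlt
  obtain ⟨φ, hφ⟩ := CommGroup.exists_apply_ne_one_of_hasEnoughRootsOfUnity
    (↥(P : Subgroup G) ⧸ conjSpan P t) ℂ (a := (y : ↥(P : Subgroup G) ⧸ conjSpan P t))
    (fun e => hy ((QuotientGroup.eq_one_iff y).1 e))
  refine ⟨φ.comp (QuotientGroup.mk' _), fun e => hφ ?_, fun w hw => ?_⟩
  · simpa using DFunLike.congr_fun e y
  · rw [MonoidHom.comp_apply, QuotientGroup.mk'_apply,
      (QuotientGroup.eq_one_iff _).2 (Subgroup.inv_mem _ hw), map_one, Units.val_one]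

/-- A product of two conjugates of an involution `t` has `p`-part conjugate in to `conjSpan`. -/
theorem mem_conjSpan_of_product {t : G} (ht : orderOf t = 2) {b c : G} {g : G}
    (hbc : (b * t * b⁻¹) * (c * t * c⁻¹) = g⁻¹) {w : ↥(P : Subgroup G)}
    (hg : Element.pPart p g = (w : G)) : w ∈ conjSpan P t := by
  by_contra hwW
  have hp : p.Prime := Fact.out
  have htt : t * t = 1 := by rw [← pow_two, orderOf_dvd_iff_pow_eq_one.1 ht.dvd]
  have htinv : t⁻¹ = t := inv_eq_of_mul_eq_one_right htt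
  obtain ⟨k, hk⟩ := IsPGroup.iff_orderOf.1 P.isPGroup' w
  rw [← Subgroup.orderOf_coe] at hk
  set u₁ := b * t * b⁻¹ with hu₁
  set u₂ := c * t * c⁻¹ with hu₂
  have h11 : u₁⁻¹ = u₁ := by rw [hu₁, mul_inv_rev, mul_inv_rev, inv_inv, htinv, mul_assoc]
  have h22 : u₂⁻¹ = u₂ := by rw [hu₂, mul_inv_rev, mul_inv_rev, inv_inv, htinv, mul_assoc]
  have hg' : g = u₂ * u₁ := by rw [← inv_inv g, ← hbc, mul_inv_rev, h11, h22]
  have hconj : u₁ * g * u₁⁻¹ = g⁻¹ := by rw [← hbc, hg']; group
  have hpinv : Element.pPart p g⁻¹ = (w : G)⁻¹ := by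
    refine ((Element.eq_pPart (a := (w : G)⁻¹) (b := (Element.pComplPart p g)⁻¹) (k := k)
      hp ?_ ?_ ?_ ?_).1).symm
    · have := Element.commute_pPart_pComplPart p g
      rw [hg] at this
      exact this.inv_inv
    · rw [← mul_inv_rev, ← hg, (Element.commute_pPart_pComplPart p g).symm.eq,
        Element.pPart_mul_pComplPart]
    · rw [orderOf_inv, hk]
    · rw [orderOf_inv]; exact Element.coprime_orderOf_pComplPart hp g
  have hinv : u₁ * (w : G) * u₁⁻¹ = (w : G)⁻¹ := by
    have h4 := (Element.pPart_conj hp u₁ g).1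
    rw [hconj, hpinv, hg] at h4
    exact h4.symm
  have hw1 : (w : G) ≠ 1 := fun e => hwW (by
    rw [show w = 1 from Subtype.ext e]; exact Subgroup.one_mem _)
  have hww := h.sq_eq_one_of_inverted w.2 hw1 hinv
  have hp2 : p = 2 := by
    have h2 : orderOf (w : G) ∣ 2 := orderOf_dvd_iff_pow_eq_one.2 (by rw [pow_two, hww])
    rw [hk] at h2
    rcases Nat.eq_zero_or_pos k with h0 | h0
    · exact absurd (orderOf_eq_one_iff.1 (by rw [hk, h0, pow_zero])) hw1
    · exact (Nat.prime_dvd_prime_iff_eq hp Nat.prime_two).1 ((dvd_pow_self p h0.ne').trans h2)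
  subst hp2
  rw [inv_eq_of_mul_eq_one_right hww] at hinv
  have hu1C : u₁ ∈ Subgroup.centralizer ({(w : G)} : Set G) :=
    Subgroup.mem_centralizer_singleton_iff.2 (mul_inv_eq_iff_eq_mul.1 hinv)
  have hgC : g ∈ Subgroup.centralizer ({(w : G)} : Set G) := by
    refine Subgroup.mem_centralizer_singleton_iff.2 ?_
    conv_lhs => rw [← Element.pPart_mul_pComplPart 2 g, hg]
    conv_rhs => rw [← Element.pPart_mul_pComplPart 2 g, hg]
    have h5 := Element.commute_pPart_pComplPart 2 g
    rw [hg] at h5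
    rw [mul_assoc, ← h5.eq]
  have hu2C : u₂ ∈ Subgroup.centralizer ({(w : G)} : Set G) := by
    have : u₂ = g * u₁⁻¹ := by rw [hg', mul_inv_cancel_right]
    rw [this]; exact Subgroup.mul_mem _ hgC (Subgroup.inv_mem _ hu1C)
  obtain ⟨A, _, f, -, -, hreg, hker⟩ := h.exists_retraction w.2 hw1
  have hPC : (P : Subgroup G) ≤ Subgroup.centralizer ({(w : G)} : Set G) := fun z hz =>
    Subgroup.mem_centralizer_singleton_iff.2 (h.commute hz w.2)
  have himage : ∀ u : ↥(Subgroup.centralizer ({(w : G)} : Set G)), IsConj t (u : G) →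
      ∃ z : ↥(P : Subgroup G), IsConj t (z : G) ∧ f ⟨z, hPC z.2⟩ = f u := by
    intro u hu
    have hu2 : orderOf u = 2 ^ 1 := by
      obtain ⟨c, hc⟩ := isConj_iff.1 hu
      rw [← Subgroup.orderOf_coe, ← hc, ← MulAut.conj_apply, MulEquiv.orderOf_eq, ht, pow_one]
    obtain ⟨c, hc⟩ := exists_conj_mem_sylow (P.subtype hPC) hu2
    refine ⟨⟨((c * u * c⁻¹ : ↥(Subgroup.centralizer ({(w : G)} : Set G))) : G), hc⟩,
      hu.trans (isConj_iff.2 ⟨(c : G), rfl⟩), ?_⟩
    show f (c * u * c⁻¹) = f u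
    rw [map_mul, map_mul, map_inv, mul_inv_cancel_comm]
  obtain ⟨z₁, hz₁, hfz₁⟩ := himage ⟨u₁, hu1C⟩ (isConj_iff.2 ⟨b, rfl⟩)
  obtain ⟨z₂, hz₂, hfz₂⟩ := himage ⟨u₂, hu2C⟩ (isConj_iff.2 ⟨c, rfl⟩)
  have hcomp : Element.pComplPart 2 g ∈ Subgroup.centralizer ({(w : G)} : Set G) := by
    have : Element.pComplPart 2 g = (w : G)⁻¹ * g := by
      conv_rhs => rw [← Element.pPart_mul_pComplPart 2 g, hg, inv_mul_cancel_left]
    rw [this]
    exact Subgroup.mul_mem _ (Subgroup.inv_mem _ (hPC w.2)) hgC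
  have hfg : f ⟨g, hgC⟩ = f ⟨(w : G), hPC w.2⟩ := by
    have e : (⟨g, hgC⟩ : ↥(Subgroup.centralizer ({(w : G)} : Set G))) =
        ⟨(w : G), hPC w.2⟩ * ⟨_, hcomp⟩ := Subtype.ext (by
      show g = (w : G) * Element.pComplPart 2 g
      rw [← hg, Element.pPart_mul_pComplPart])
    rw [e, map_mul, hreg ⟨_, hcomp⟩ (by
      rw [Subgroup.orderOf_mk]
      exact (Nat.Prime.coprime_iff_not_dvd hp).1
        (Element.coprime_orderOf_pComplPart hp g).symm), mul_one]
  have hfg2 : f ⟨g, hgC⟩ = f (⟨z₂, hPC z₂.2⟩ * ⟨z₁, hPC z₁.2⟩) := by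
    rw [map_mul, hfz₁, hfz₂, ← map_mul]
    exact congrArg f (Subtype.ext hg')
  have h6 := hker ((⟨z₂, hPC z₂.2⟩ * ⟨z₁, hPC z₁.2⟩)⁻¹ * ⟨(w : G), hPC w.2⟩)
    ((P : Subgroup G).mul_mem
      ((P : Subgroup G).inv_mem ((P : Subgroup G).mul_mem z₂.2 z₁.2)) w.2)
    (by rw [map_mul, map_inv, ← hfg2, hfg, inv_mul_cancel])
  rw [inv_mul_eq_one] at h6
  refine hwW ?_
  have : z₂ * z₁ = w :=
    Subtype.ext (congrArg (fun z : ↥(Subgroup.centralizer ({(w : G)} : Set G)) => (z : G)) h6 : _)
  rw [← this]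
  exact Subgroup.mul_mem _ (Subgroup.subset_closure hz₂) (Subgroup.subset_closure hz₁)

variable {M : Ideal AlgInt}

/-- The relations attached to an involution. -/
theorem sum_involution_eq_zero (hM : IsPModular p M) {t : G} (ht : orderOf t = 2)
    {ψ : ↥(P : Subgroup G) →* ℂˣ} (hψ : ∀ w ∈ conjSpan P t, (ψ w⁻¹ : ℂ) = 1)
    (x : IrrCharacter G → ℤ) (hx : ∀ χ : IrrCharacter G, (χ : G → ℂ) t = x χ) :
    ∑ᶠ χ ∈ principalBlock M G, (oneSubInt P ψ χ : ℂ) * (x χ : ℂ) = 0 ∧
    ∑ᶠ χ ∈ principalBlock M G,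
      (oneSubInt P ψ χ : ℂ) * ((x χ : ℂ) ^ 2 / (charDegree (χ : G → ℂ) : ℂ)) = 0 := by
  classical
  letI := Fintype.ofFinite G
  haveI : Finite (IrrCharacter G) := CharInd.finite_irrCharacter
  letI := Fintype.ofFinite (IrrCharacter G)
  have hp : p.Prime := Fact.out
  simp only [← oneSubInt_spec]
  constructor
  · refine sum_oneSubMult_mul _ ψ (fun χ => (x χ : ℂ)) fun w hw => ?_
    refine Eq.trans ?_ (sum_principal_conj_eq_zero hM w t ?_)
    · refine finsum_mem_congr rfl fun χ _ => ?_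
      rw [hx, map_intCast]
    · intro hc
      refine hw (hψ w ?_)
      by_cases h2 : p = 2
      · subst h2
        rw [(Element.pPart_eq_self hp (k := 1) (by rw [ht, pow_one])).1] at hc
        exact Subgroup.subset_closure hc.symm
      · rw [(Element.pPart_eq_one hp (by
            rw [ht]; exact (Nat.coprime_primes Nat.prime_two hp).2 (Ne.symm h2))).1,
          isConj_one_left] at hc
        rw [show w = 1 from Subtype.ext hc]; exact Subgroup.one_mem _
  · refine sum_oneSubMult_mul _ ψ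
      (fun χ => (x χ : ℂ) ^ 2 / (charDegree (χ : G → ℂ) : ℂ)) fun w hw => ?_
    obtain ⟨k, hk⟩ := IsPGroup.iff_orderOf.1 P.isPGroup' w
    rw [← Subgroup.orderOf_coe] at hk
    refine S4722.principal_part_eq_zero hM hk _ fun g hg => ?_
    rw [← sum_irr_pair_eq_zero t t g⁻¹ (fun b c hbc =>
      hw (hψ w (h.mem_conjSpan_of_product ht hbc hg)))]
    refine Finset.sum_congr rfl fun χ _ => ?_
    rw [inv_inv, hx, charDegree_eq]; ring

end IndexThree

end Cfsg.Agent.BlocksChar
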