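import Cfsg.Agent.BlocksChar.IndexThree

/-!
# Principal block multiplicities of `1 - ψ` for an index three Frobenius normaliser
-/

set_option autoImplicit false
set_option linter.style.haveILetI false
set_option linter.unusedSectionVars false

open Cfsg
open scoped ComplexConjugate Pointwise

namespace Cfsg.Agent.BlocksChar

universe u

/-- A `p`-element is conjugate into any Sylow `p`-subgroup. -/
theorem exists_conj_mem_sylow {G : Type u} [Group G] [Finite G] {p : ℕ} [Fact p.Prime]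
    (P : Sylow p G) {x : G} {k : ℕ} (hx : orderOf x = p ^ k) :
    ∃ c : G, c * x * c⁻¹ ∈ (P : Subgroup G) := by
  have hz : IsPGroup p (Subgroup.zpowers x) := IsPGroup.of_card (by rw [Nat.card_zpowers, hx])
  obtain ⟨Q, hQ⟩ := hz.exists_le_sylow
  obtain ⟨c, hc⟩ := MulAction.exists_smul_eq G Q P
  refine ⟨c, ?_⟩
  rw [← hc, Sylow.coe_subgroup_smul, Subgroup.mem_pointwise_smul_iff_inv_smul_mem]
  have e : (MulAut.conj c)⁻¹ • (c * x * c⁻¹) = x := by
    rw [MulAut.smul_def, ← map_inv, MulAut.conj_apply]; group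
  rw [e]
  exact hQ (Subgroup.mem_zpowers x)

/-- The sum of the linear characters of an abelian group at an element. -/
theorem sum_linear {P : Type u} [Group P] [Finite P] [Fintype (P →* ℂˣ)]
    (hc : ∀ a b : P, a * b = b * a) (z : P) [Decidable (z = 1)] :
    ∑ ψ : P →* ℂˣ, (ψ z : ℂ) = if z = 1 then (Nat.card P : ℂ) else 0 := by
  have hcomm : commutator P = ⊥ := (commutator_eq_bot_iff_center_eq_top P).2
    (eq_top_iff.2 fun a _ => Subgroup.mem_center_iff.2 fun b => hc b a)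
  split_ifs with hz
  · subst hz
    simp only [map_one, Units.val_one, Finset.sum_const, Finset.card_univ, nsmul_eq_mul, mul_one]
    rw [← Nat.card_eq_fintype_card, Char.card_monoidHom_complex, hcomm, Subgroup.index_bot]
  · have hne : Abelianization.of z ≠ 1 := fun h => hz (by
      rwa [← MonoidHom.mem_ker, Abelianization.ker_of, hcomm, Subgroup.mem_bot] at h)
    obtain ⟨φ, hφ⟩ := CommGroup.exists_apply_ne_one_of_hasEnoughRootsOfUnity (Abelianization P) ℂ hne
    set lam : P →* ℂˣ := φ.comp Abelianization.of with hlam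
    have h : (lam z : ℂ) * ∑ ψ : P →* ℂˣ, (ψ z : ℂ) = ∑ ψ : P →* ℂˣ, (ψ z : ℂ) := by
      rw [Finset.mul_sum]
      exact Fintype.sum_equiv (Equiv.mulLeft lam) _ _ fun ψ => rfl
    by_contra hS
    refine hφ (Units.ext ?_)
    exact (mul_eq_right₀ hS).1 h

/-- Inner products of `1 - ψ` with `1 - φ`. -/
theorem sum_one_sub {P : Type u} [Group P] [Fintype P] {ψ φ : P →* ℂˣ} (hψ : ψ ≠ 1) (hφ : φ ≠ 1)
    [Decidable (ψ = φ)] :
    ∑ y : P, (1 - (ψ y : ℂ)) * conj (1 - (φ y : ℂ)) =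
      if ψ = φ then 2 * (Nat.card P : ℂ) else (Nat.card P : ℂ) := by
  have hconj : ∀ y : P, conj ((φ y : ℂˣ) : ℂ) = ((φ⁻¹ y : ℂˣ) : ℂ) := fun y => by
    rw [← Char.irr_inv (Char.isIrrCharacter_monoidHom φ), map_inv, MonoidHom.inv_apply]
  have hprod : ∀ y : P, (1 - (ψ y : ℂ)) * conj (1 - (φ y : ℂ)) =
      1 - ((φ⁻¹ y : ℂˣ) : ℂ) - (ψ y : ℂ) + (((ψ * φ⁻¹) y : ℂˣ) : ℂ) := fun y => by
    rw [map_sub, map_one, hconj, MonoidHom.mul_apply, Units.val_mul]; ring
  simp only [hprod, Finset.sum_add_distrib, Finset.sum_sub_distrib, Finset.sum_const,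
    Finset.card_univ, nsmul_eq_mul, mul_one, ← Nat.card_eq_fintype_card]
  rw [Char.monoidHom_sum_eq_zero (f := φ⁻¹) (fun e => hφ (MonoidHom.ext fun y => by
      simpa using DFunLike.congr_fun e y)), Char.monoidHom_sum_eq_zero hψ]
  split_ifs with h
  · subst h
    have e : ∀ y : P, ((ψ * ψ⁻¹) y : ℂˣ) = 1 := fun y => by simp
    simp only [e, Units.val_one, Finset.sum_const,
      Finset.card_univ, nsmul_eq_mul, mul_one, ← Nat.card_eq_fintype_card]
    ring
  · rw [Char.monoidHom_sum_eq_zero (f := ψ * φ⁻¹) fun e => h (MonoidHom.ext fun y => by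
      have := DFunLike.congr_fun e y
      simpa [mul_inv_eq_one] using this)]
    ring

variable {G : Type u} [Group G] {p : ℕ} [Fact p.Prime] {P : Sylow p G}

/-- Conjugation of linear characters by the normaliser. -/
def conjHom (P : Sylow p G) (x : ↥(Subgroup.normalizer ((P : Subgroup G) : Set G)))
    (ψ : ↥(P : Subgroup G) →* ℂˣ) : ↥(P : Subgroup G) →* ℂˣ where
  toFun w := ψ ⟨(x : G)⁻¹ * w * x, (Subgroup.mem_normalizer_iff''.1 x.2 (w : G)).1 w.2⟩
  map_one' := by rw [← map_one ψ]; congr 1; exact Subtype.ext (by simp)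
  map_mul' a b := by rw [← map_mul]; congr 1; exact Subtype.ext (by simp [mul_assoc])

theorem conjHom_iff (x : ↥(Subgroup.normalizer ((P : Subgroup G) : Set G)))
    (ψ ψ' : ↥(P : Subgroup G) →* ℂˣ) :
    (∀ w w' : ↥(P : Subgroup G), (w' : G) = (x : G) * w * (x : G)⁻¹ → ψ' w' = ψ w) ↔
      ψ' = conjHom P x ψ := by
  constructor
  · intro h
    refine MonoidHom.ext fun w' => ?_
    exact h ⟨(x : G)⁻¹ * w' * x, (Subgroup.mem_normalizer_iff''.1 x.2 (w' : G)).1 w'.2⟩ w'
      (by group)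
  · rintro rfl w w' hw'
    simp only [conjHom, MonoidHom.coe_mk, OneHom.coe_mk]
    congr 1
    exact Subtype.ext (by simp only [hw']; group)

theorem conjLin_iff (ψ ψ' : ↥(P : Subgroup G) →* ℂˣ) :
    ConjLin P ψ ψ' ↔ ∃ x, ψ' = conjHom P x ψ :=
  ⟨fun ⟨n, hn, h⟩ => ⟨⟨n, hn⟩, (conjHom_iff ⟨n, hn⟩ ψ ψ').1 h⟩,
    fun ⟨x, h⟩ => ⟨x, x.2, (conjHom_iff x ψ ψ').2 h⟩⟩

theorem conjHom_ne_one (x : ↥(Subgroup.normalizer ((P : Subgroup G) : Set G)))
    {ψ : ↥(P : Subgroup G) →* ℂˣ} (hψ : ψ ≠ 1) : conjHom P x ψ ≠ 1 := by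
  intro h
  refine hψ (MonoidHom.ext fun w => ?_)
  have h1 := (conjHom_iff x ψ 1).2 h.symm w
    ⟨(x : G) * w * (x : G)⁻¹, (Subgroup.mem_normalizer_iff.1 x.2 (w : G)).1 w.2⟩ rfl
  simpa using h1.symm

theorem conjLin_refl (ψ : ↥(P : Subgroup G) →* ℂˣ) : ConjLin P ψ ψ :=
  ⟨1, Subgroup.one_mem _, fun w w' hw => by
    have : w' = w := Subtype.ext (by simpa using hw)
    rw [this]⟩

theorem ConjLin.ne_one {ψ ψ' : ↥(P : Subgroup G) →* ℂˣ} (h : ConjLin P ψ ψ') (hψ : ψ ≠ 1) :
    ψ' ≠ 1 := by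
  obtain ⟨x, rfl⟩ := (conjLin_iff ψ ψ').1 h
  exact conjHom_ne_one x hψ

/-- The multiplicity of `1 - ψ` in `χ`. -/
noncomputable def oneSubMult (P : Sylow p G) (ψ : ↥(P : Subgroup G) →* ℂˣ) (χ : G → ℂ) : ℂ :=
  (Nat.card P : ℂ)⁻¹ * ∑ᶠ y : ↥(P : Subgroup G), χ (y : G) * (1 - (ψ y⁻¹ : ℂ))

variable [Finite G]

theorem exists_int_oneSubMult (ψ : ↥(P : Subgroup G) →* ℂˣ) (χ : IrrCharacter G) :
    ∃ k : ℤ, oneSubMult P ψ (χ : G → ℂ) = k := by
  classical
  letI := Fintype.ofFinite (P : Subgroup G)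
  haveI : Finite (IrrCharacter ↥(P : Subgroup G)) := CharInd.finite_irrCharacter
  letI := Fintype.ofFinite (IrrCharacter ↥(P : Subgroup G))
  have hgen : IsGeneralizedCharacter ↥(P : Subgroup G) (fun y => 1 - (ψ y : ℂ)) :=
    CharInd.genChar_sub (CharInd.genChar_irr CharInd.irr_one_const)
      (CharInd.genChar_irr (Char.isIrrCharacter_monoidHom ψ))
  obtain ⟨m, hm⟩ := CharInd.isCharacter_coef
    (CharInd.isCharacter_res (P : Subgroup G) (Char.isCharacter_of_irr χ.2))
  obtain ⟨m', hm'⟩ := CharInd.genChar_coef hgen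
  refine ⟨∑ ξ, (m ξ : ℤ) * m' ξ, ?_⟩
  rw [← CharInd.genChar_classInner (θ := fun k : ↥(P : Subgroup G) => (χ : G → ℂ) k)
    (a := fun ξ => (m ξ : ℤ))
    (by rw [hm]; exact Finset.sum_congr rfl fun ξ _ => by rw [Int.cast_natCast]) hm']
  simp only [oneSubMult, classInner, finsum_eq_sum_of_fintype]
  congr 1
  refine Finset.sum_congr rfl fun y _ => ?_
  congr 1
  rw [map_sub, map_one, ← Char.irr_inv (Char.isIrrCharacter_monoidHom ψ), map_inv]

theorem oneSubMult_trivial {ψ : ↥(P : Subgroup G) →* ℂˣ} (hψ : ψ ≠ 1) :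
    oneSubMult P ψ (fun _ => (1 : ℂ)) = 1 := by
  classical
  letI := Fintype.ofFinite (P : Subgroup G)
  have hq0 : (Nat.card P : ℂ) ≠ 0 := Nat.cast_ne_zero.2 Nat.card_pos.ne'
  simp only [oneSubMult, one_mul, finsum_eq_sum_of_fintype, Finset.sum_sub_distrib,
    Finset.sum_const, Finset.card_univ, nsmul_eq_mul, mul_one, ← Nat.card_eq_fintype_card]
  rw [Fintype.sum_equiv (Equiv.inv _) (fun y => ((ψ y⁻¹ : ℂˣ) : ℂ)) (fun y => ((ψ y : ℂˣ) : ℂ))
    (fun _ => rfl), Char.monoidHom_sum_eq_zero hψ, sub_zero]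
  exact inv_mul_cancel₀ hq0

/-- Combinations vanishing on the support of `1 - ψ` are orthogonal to the multiplicities. -/
theorem sum_oneSubMult_mul (B : Set (IrrCharacter G)) (ψ : ↥(P : Subgroup G) →* ℂˣ)
    (f : IrrCharacter G → ℂ)
    (hf : ∀ v : ↥(P : Subgroup G), (ψ v⁻¹ : ℂ) ≠ 1 → ∑ᶠ χ ∈ B, f χ * (χ : G → ℂ) v = 0) :
    ∑ᶠ χ ∈ B, oneSubMult P ψ (χ : G → ℂ) * f χ = 0 := by
  classical
  letI := Fintype.ofFinite G
  letI := Fintype.ofFinite (P : Subgroup G)
  haveI : Finite (IrrCharacter G) := CharInd.finite_irrCharacter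
  letI := Fintype.ofFinite (IrrCharacter G)
  simp only [oneSubMult, finsum_mem_eq_toFinset_sum] at hf ⊢
  simp only [finsum_eq_sum_of_fintype, Finset.mul_sum, Finset.sum_mul]
  rw [Finset.sum_comm]
  refine Finset.sum_eq_zero fun v _ => ?_
  by_cases hv : (ψ v⁻¹ : ℂ) = 1
  · exact Finset.sum_eq_zero fun χ _ => by rw [hv]; ring
  · calc _ = ((Nat.card P : ℂ)⁻¹ * (1 - (ψ v⁻¹ : ℂ))) *
          ∑ χ ∈ B.toFinset, f χ * (χ : G → ℂ) v := by
          rw [Finset.mul_sum]; exact Finset.sum_congr rfl fun χ _ => by ring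
      _ = 0 := by rw [hf v hv, mul_zero]

/-- Columns of different sections are orthogonal in the principal block. -/
theorem sum_principal_conj_eq_zero {M : Ideal AlgInt} (hM : IsPModular p M)
    (v : ↥(P : Subgroup G)) (g : G) (hvg : ¬ IsConj (v : G) (Element.pPart p g)) :
    ∑ᶠ χ ∈ principalBlock M G, conj ((χ : G → ℂ) g) * (χ : G → ℂ) v = 0 := by
  classical
  letI := Fintype.ofFinite G
  obtain ⟨k, hk⟩ := IsPGroup.iff_orderOf.1 P.isPGroup' v
  rw [← Subgroup.orderOf_coe] at hk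
  letI := Fintype.ofFinite (Subgroup.centralizer ({(v : G)} : Set G))
  have h := Brauer.principal_column_eq_zero hM hk (g := g)
    (Subgroup.centralizer ({(v : G)} : Set G)) rfl 1
    (by rw [orderOf_one]; exact (Fact.out : p.Prime).not_dvd_one) hvg
  rw [← h]
  refine finsum_mem_congr rfl fun χ _ => ?_
  rw [OneMemClass.coe_one, mul_one, mul_comm]

namespace IndexThree

variable (h : IndexThree P)
include h

theorem card_normalizer : Nat.card ↥(Subgroup.normalizer ((P : Subgroup G) : Set G)) =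
    3 * Nat.card ↥(Subgroup.centralizer ((P : Subgroup G) : Set G)) := by
  rw [← Subgroup.card_mul_index ((Subgroup.centralizer ((P : Subgroup G) : Set G)).subgroupOf
    (Subgroup.normalizer ((P : Subgroup G) : Set G))), ← h.relIndex, mul_comm]
  congr 1
  exact Nat.card_congr (Subgroup.subgroupOfEquivOfLe h.centralizer_le_normalizer).toEquiv

open scoped Classical in
theorem card_fibre [Fintype ↥(Subgroup.normalizer ((P : Subgroup G) : Set G))]
    {ψ : ↥(P : Subgroup G) →* ℂˣ} (hψ : ψ ≠ 1) (ψ' : ↥(P : Subgroup G) →* ℂˣ) :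
    (Finset.univ.filter fun x => ψ' = conjHom P x ψ).card =
      if ConjLin P ψ ψ' then Nat.card ↥(Subgroup.centralizer ((P : Subgroup G) : Set G)) else 0 := by
  split_ifs with hr
  · obtain ⟨n, hn⟩ := (conjLin_iff ψ ψ').1 hr
    rw [← Nat.card_eq_finsetCard,
      Nat.card_congr (Equiv.subtypeEquivRight (q := fun x => ψ' = conjHom P x ψ) fun x => by
        rw [Finset.mem_filter]; exact ⟨fun hx => hx.2, fun hx => ⟨Finset.mem_univ _, hx⟩⟩)]
    refine (Nat.card_eq_of_bijective (fun c : ↥(Subgroup.centralizer ((P : Subgroup G) : Set G)) =>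
      (⟨n * ⟨(c : G), h.centralizer_le_normalizer c.2⟩, ?_⟩ :
        {x : ↥(Subgroup.normalizer ((P : Subgroup G) : Set G)) // ψ' = conjHom P x ψ})) ⟨?_, ?_⟩).symm
    · refine (conjHom_iff _ ψ ψ').1 fun w w' hw' => ?_
      refine (conjHom_iff n ψ ψ').2 hn w w' ?_
      rw [hw', Subgroup.coe_mul]
      have := (c.2 (w : G) w.2 : (w : G) * c = c * w)
      calc (n : G) * (c : G) * w * ((n : G) * (c : G))⁻¹
          = (n : G) * ((c : G) * w * (c : G)⁻¹) * (n : G)⁻¹ := by group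
        _ = _ := by rw [← this, mul_inv_cancel_right]
    · intro a b hab
      exact Subtype.ext (congrArg (fun z : ↥(Subgroup.normalizer ((P : Subgroup G) : Set G)) => (z : G))
        (mul_left_cancel (congrArg Subtype.val hab)))
    · rintro ⟨x, hx⟩
      refine ⟨⟨((n⁻¹ * x : ↥(Subgroup.normalizer ((P : Subgroup G) : Set G))) : G), (h.stab hψ (n⁻¹ * x).2).1 fun w w' hw' => ?_⟩,
        Subtype.ext ?_⟩
      · have e1 := (conjHom_iff n ψ ψ').2 hn w'
          ⟨(x : G) * w * (x : G)⁻¹, (Subgroup.mem_normalizer_iff.1 x.2 (w : G)).1 w.2⟩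
          (by simp only [hw', Subgroup.coe_mul, InvMemClass.coe_inv]; group)
        have e2 := (conjHom_iff x ψ ψ').2 hx w
          ⟨(x : G) * w * (x : G)⁻¹, (Subgroup.mem_normalizer_iff.1 x.2 (w : G)).1 w.2⟩ rfl
        exact e1.symm.trans e2
      · exact mul_inv_cancel_left n x
  · rw [Finset.card_eq_zero, Finset.filter_eq_empty_iff]
    exact fun x _ hx => hr ((conjLin_iff ψ ψ').2 ⟨x, hx⟩)

open scoped Classical in
theorem card_orbit [Fintype (↥(P : Subgroup G) →* ℂˣ)] {ψ : ↥(P : Subgroup G) →* ℂˣ}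
    (hψ : ψ ≠ 1) : (Finset.univ.filter fun ψ' => ConjLin P ψ ψ').card = 3 := by
  letI := Fintype.ofFinite ↥(Subgroup.normalizer ((P : Subgroup G) : Set G))
  have hs := Finset.card_eq_sum_card_fiberwise (f := fun x => conjHom P x ψ)
    (s := (Finset.univ : Finset ↥(Subgroup.normalizer ((P : Subgroup G) : Set G))))
    (t := Finset.univ.filter fun ψ' => ConjLin P ψ ψ')
    (fun x _ => by
      simp only [Finset.coe_filter, Finset.mem_univ, true_and, Set.mem_setOf_eq]
      exact (conjLin_iff ψ _).2 ⟨x, rfl⟩)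
  rw [Finset.sum_congr rfl
      (g := fun _ => Nat.card ↥(Subgroup.centralizer ((P : Subgroup G) : Set G))) (fun ψ' hψ' => by
    rw [Finset.filter_congr (q := fun x => ψ' = conjHom P x ψ) (fun x _ => eq_comm),
      h.card_fibre hψ, if_pos (Finset.mem_filter.1 hψ').2]),
    Finset.sum_const, smul_eq_mul, Finset.card_univ, ← Nat.card_eq_fintype_card,
    h.card_normalizer] at hs
  exact (Nat.eq_of_mul_eq_mul_right Nat.card_pos hs).symm

open scoped Classical in
/-- The inner products of the multiplicity vectors. -/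
theorem sum_oneSubMult_pair {M : Ideal AlgInt} (hM : IsPModular p M) (hP1 : Nat.card P ≠ 1)
    {ψ ψ' : ↥(P : Subgroup G) →* ℂˣ} (hψ : ψ ≠ 1) (hψ' : ψ' ≠ 1) :
    ∑ᶠ χ ∈ principalBlock M G,
      oneSubMult P ψ (χ : G → ℂ) * conj (oneSubMult P ψ' (χ : G → ℂ)) =
        if ConjLin P ψ ψ' then 4 else 3 := by
  letI := Fintype.ofFinite G
  letI := Fintype.ofFinite (P : Subgroup G)
  letI := Fintype.ofFinite ↥(Subgroup.normalizer ((P : Subgroup G) : Set G))
  set N := Subgroup.normalizer ((P : Subgroup G) : Set G) with hN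
  set C := Subgroup.centralizer ((P : Subgroup G) : Set G) with hC
  have hgen : ∀ φ : ↥(P : Subgroup G) →* ℂˣ,
      IsGeneralizedCharacter ↥(P : Subgroup G) (fun y => 1 - (φ y : ℂ)) := fun φ =>
    CharInd.genChar_sub (CharInd.genChar_irr CharInd.irr_one_const)
      (CharInd.genChar_irr (Char.isIrrCharacter_monoidHom φ))
  obtain ⟨y₀, hy₀, hy₀1⟩ : ∃ y ∈ (P : Subgroup G), y ≠ 1 := by
    by_contra hc
    push Not at hc
    exact hP1 (Subgroup.card_eq_one.2 ((Subgroup.eq_bot_iff_forall _).2 hc))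
  have hres := S4720.result p M hM (P : Subgroup G) P.isPGroup' N Subgroup.le_normalizer le_rfl
    {y : G | y ∈ (P : Subgroup G) ∧ y ≠ 1} ⟨y₀, hy₀, hy₀1⟩ (fun y hy => hy.1)
    (fun x hx y hy => ⟨(Subgroup.mem_normalizer_iff.1 hx y).1 hy.1,
      fun e => hy.2 (conj_eq_one_iff.1 e)⟩)
    (fun y hy g hg => h.fusion hy.1 hg rfl) ((Nat.card P : ℚ) / Nat.card C)
    (fun y hy => by
      haveI : Finite (IrrCharacter ↥(Subgroup.centralizer ({y} : Set G))) :=
        CharInd.finite_irrCharacter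
      rw [inf_comm, h.frob y hy.1 hy.2, div_mul_cancel₀ _ (Nat.cast_ne_zero.2 Nat.card_pos.ne'),
        ← h.lambda_eq hM hy.1 hy.2]
      first
      | rfl
      | (rw [Nat.cast_finsum_mem (Set.toFinite _)]; simp only [Nat.cast_pow]))
    _ _ (hgen ψ) (hgen ψ')
    (fun y hy => by
      have : y = 1 := by
        by_contra hne
        exact hy ⟨y.2, fun e => hne (Subtype.ext e)⟩
      simp [this])
  simp only [oneSubMult]
  refine hres.trans ?_
  have hx : ∀ x : N, ∑ y : ↥(P : Subgroup G), (1 - (ψ y : ℂ)) *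
      conj (extendByZero (P : Subgroup G) (fun y => 1 - (ψ' y : ℂ))
        ((x : G) * (y : G) * (x : G)⁻¹)) =
      if ψ' = conjHom P x ψ then 2 * (Nat.card P : ℂ) else (Nat.card P : ℂ) := by
    intro x
    have hmem : ∀ y : ↥(P : Subgroup G), (x : G) * (y : G) * (x : G)⁻¹ ∈ (P : Subgroup G) :=
      fun y => (Subgroup.mem_normalizer_iff.1 x.2 (y : G)).1 y.2
    have e : ∀ y : ↥(P : Subgroup G),
        extendByZero (P : Subgroup G) (fun y => 1 - (ψ' y : ℂ))
          ((x : G) * (y : G) * (x : G)⁻¹) = 1 - ((conjHom P x⁻¹ ψ' y : ℂˣ) : ℂ) := fun y => by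
      rw [CharInd.extendByZero_mem _ _ (hmem y)]
      simp only [conjHom, MonoidHom.coe_mk, OneHom.coe_mk, InvMemClass.coe_inv, inv_inv]
    simp only [e]
    rw [sum_one_sub hψ (conjHom_ne_one _ hψ')]
    refine if_congr ?_ rfl rfl
    constructor
    · intro he
      refine (conjHom_iff x ψ ψ').1 fun w w' hw' => ?_
      rw [he]
      simp only [conjHom, MonoidHom.coe_mk, OneHom.coe_mk, InvMemClass.coe_inv, inv_inv]
      congr 1
      exact Subtype.ext hw'
    · intro he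
      refine MonoidHom.ext fun w => ?_
      simp only [conjHom, MonoidHom.coe_mk, OneHom.coe_mk, InvMemClass.coe_inv, inv_inv]
      exact ((conjHom_iff x ψ ψ').2 he w _ rfl).symm
  simp only [finsum_eq_sum_of_fintype, map_sum]
  rw [Finset.sum_congr rfl (fun y _ => Finset.mul_sum _ _ _), Finset.sum_comm,
    Finset.sum_congr rfl (fun x _ => hx x), Finset.sum_ite, Finset.sum_const, Finset.sum_const,
    nsmul_eq_mul, nsmul_eq_mul, Finset.filter_not,
    Finset.card_sdiff_of_subset (Finset.filter_subset _ _), Finset.card_univ,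
    ← Nat.card_eq_fintype_card, h.card_normalizer,
    show (Finset.univ.filter fun x : N => ψ' = conjHom P x ψ).card =
      if ConjLin P ψ ψ' then Nat.card C else 0 from by convert h.card_fibre hψ ψ']
  have hq0 : (Nat.card P : ℂ) ≠ 0 := Nat.cast_ne_zero.2 Nat.card_pos.ne'
  have hC0 : (Nat.card C : ℂ) ≠ 0 := Nat.cast_ne_zero.2 Nat.card_pos.ne'
  split_ifs
  · rw [show 3 * Nat.card C - Nat.card C = 2 * Nat.card C by omega]
    push_cast
    field_simp
    ring
  · rw [Nat.sub_zero]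
    push_cast
    field_simp
    ring

end IndexThree

end Cfsg.Agent.BlocksChar
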