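import Cfsg.Prelude.Def_Local
import Cfsg.Agent.CharInd.Clifford
import Cfsg.Agent.Char.Linear
import Cfsg.Agent.BlocksChar.ClassProd
import Cfsg.Agent.BlocksChar.Degree
import Mathlib.GroupTheory.Sylow
import Mathlib.GroupTheory.Perm.Cycle.Type

/-!
# Defect zero characters of `p`-solvable groups without elements of order `pq`
-/

set_option autoImplicit false
set_option linter.style.haveILetI false
set_option linter.unusedSectionVars false

namespace Cfsg.Agent.BlocksChar

universe u

variable {G : Type u} [Group G] [Finite G] {p q : ℕ} [Fact p.Prime] [Fact q.Prime]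

/-- No element of order `p` commutes with one of order `q`. -/
def PQFree (p q : ℕ) (G : Type u) [Group G] : Prop :=
  ∀ g h : G, orderOf g = p → orderOf h = q → Commute g h → False

theorem PQFree.symm (H : PQFree p q G) : PQFree q p G := fun g h hg hh hc => H h g hh hg hc.symm

theorem PQFree.eq_one (H : PQFree p q G) {g v : G} (hg : g ^ p = 1) (hg1 : g ≠ 1) {k : ℕ}
    (hv : orderOf v = q ^ k) (hc : Commute g v) : v = 1 := by
  by_contra hv1
  have hk : k ≠ 0 := fun h => hv1 (orderOf_eq_one_iff.1 (by rw [hv, h, pow_zero]))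
  refine H g (v ^ (q ^ (k - 1))) (orderOf_eq_prime hg hg1) ?_ (hc.pow_right _)
  rw [orderOf_pow' _ (pow_ne_zero _ (Fact.out : q.Prime).ne_zero), hv,
    Nat.gcd_eq_right (pow_dvd_pow q (Nat.sub_le k 1)),
    Nat.pow_div (Nat.sub_le k 1) (Fact.out : q.Prime).pos]
  rw [show k - (k - 1) = 1 by omega, pow_one]

theorem PQFree.quotient (H : PQFree p q G) (hpq : p ≠ q) (K : Subgroup G) [K.Normal] :
    PQFree p q (G ⧸ K) := by
  intro g h hg hh hc
  have hp : p.Prime := Fact.out
  have hq : q.Prime := Fact.out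
  have hcop : (orderOf g).Coprime (orderOf h) := by
    rw [hg, hh]; exact (Nat.coprime_primes hp hq).2 hpq
  have ho := hc.orderOf_mul_eq_mul_orderOf_of_coprime hcop
  rw [hg, hh] at ho
  obtain ⟨x, hx⟩ := QuotientGroup.mk_surjective (g * h)
  have hdvd : p * q ∣ orderOf x := ho ▸ hx ▸ orderOf_map_dvd (QuotientGroup.mk' K) x
  obtain ⟨m, hm⟩ := hdvd
  have hx0 : 0 < orderOf x := orderOf_pos x
  have hm0 : m ≠ 0 := by rintro rfl; rw [mul_zero] at hm; omega
  refine H (x ^ (q * m)) (x ^ (p * m)) ?_ ?_ (Commute.pow_pow_self x _ _)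
  · rw [orderOf_pow' _ (Nat.mul_ne_zero hq.ne_zero hm0), hm,
      Nat.gcd_eq_right ⟨p, by ring⟩, mul_assoc, Nat.mul_div_cancel _ (Nat.pos_of_ne_zero
        (Nat.mul_ne_zero hq.ne_zero hm0))]
  · rw [orderOf_pow' _ (Nat.mul_ne_zero hp.ne_zero hm0), hm,
      Nat.gcd_eq_right ⟨q, by ring⟩, show p * q * m = q * (p * m) by ring,
      Nat.mul_div_cancel _ (Nat.pos_of_ne_zero (Nat.mul_ne_zero hp.ne_zero hm0))]

/-- A character over `θ` has `p`-defect zero if no element of order `p` fixes `θ`. -/
theorem exists_defectZero_over (N : Subgroup G) [hN : N.Normal] {θ : N → ℂ}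
    (hθ : Cfsg.IsIrrCharacter N θ)
    (hstab : ∀ g : G, orderOf g = p → CharInd.conjChar N g θ ≠ θ) :
    ∃ χ : IrrCharacter G,
      (Cfsg.charDegree (χ : G → ℂ)).factorization p = (Nat.card G).factorization p := by
  classical
  letI := Fintype.ofFinite G
  letI := Fintype.ofFinite N
  let S : Subgroup G :=
    { carrier := {g | CharInd.conjChar N g θ = θ}
      one_mem' := CharInd.conjChar_one N θ
      mul_mem' := fun {a b} ha hb => by
        show CharInd.conjChar N (a * b) θ = θ
        rw [CharInd.conjChar_mul, show CharInd.conjChar N a θ = θ from ha,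
          show CharInd.conjChar N b θ = θ from hb]
      inv_mem' := fun {a} ha => by
        show CharInd.conjChar N a⁻¹ θ = θ
        conv_lhs => rw [← show CharInd.conjChar N a θ = θ from ha]
        rw [← CharInd.conjChar_mul, mul_inv_cancel, CharInd.conjChar_one] }
  have hS : ¬ p ∣ Nat.card S := by
    intro h
    obtain ⟨g, hg⟩ := exists_prime_orderOf_dvd_card' p h
    exact hstab g (by rw [Subgroup.orderOf_coe, hg]) g.2
  have horb : (CharInd.conjClass N θ).card * Nat.card S = Nat.card G := by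
    have hfib : ∀ ψ ∈ CharInd.conjClass N θ,
        (Finset.univ.filter fun g : G => CharInd.conjChar N g θ = ψ).card = Nat.card S := by
      intro ψ hψ
      obtain ⟨x, rfl⟩ := (CharInd.mem_conjClass N).1 hψ
      rw [Nat.card_eq_fintype_card, ← Fintype.card_coe]
      refine Fintype.card_congr ((Equiv.mulRight x⁻¹).subtypeEquiv fun g => ?_)
      simp only [Finset.mem_filter, Finset.mem_univ, true_and, Equiv.coe_mulRight]
      show _ ↔ CharInd.conjChar N (g * x⁻¹) θ = θ
      rw [CharInd.conjChar_mul]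
      constructor
      · intro h
        rw [h, ← CharInd.conjChar_mul, mul_inv_cancel, CharInd.conjChar_one]
      · intro h
        have h' := congrArg (CharInd.conjChar N x) h
        rwa [← CharInd.conjChar_mul, ← CharInd.conjChar_mul, inv_mul_cancel, mul_one] at h'
    rw [← Finset.sum_const_nat hfib, Nat.card_eq_fintype_card, ← Finset.card_univ]
    refine (Finset.card_eq_sum_card_fiberwise fun g _ => ?_).symm
    exact (CharInd.mem_conjClass N).2 ⟨g, rfl⟩
  have hind : Cfsg.IsCharacter G (Cfsg.indFun N θ) :=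
    CharInd.isCharacter_indFun N (Char.isCharacter_of_irr hθ)
  obtain ⟨a, ha, ha'⟩ := Char.isCharacter_exists_coeff hind
  obtain ⟨χ, hχ⟩ : ∃ χ : IrrCharacter G,
      Cfsg.classInner (fun n : N => (χ : G → ℂ) n) θ ≠ 0 := by
    by_contra hcon
    push Not at hcon
    have hz : ∀ χ : IrrCharacter G, a χ = 0 := fun χ => by
      have h := ha' χ
      rw [CharInd.classInner_indFun_left N θ (Char.irr_isClassFunction χ.2),
        ← CharInd.classInner_swap, hcon χ, map_zero] at h
      exact_mod_cast h.symm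
    have h1 : Cfsg.indFun N θ 1 = 0 := by
      rw [ha]; simp [hz, Finset.sum_apply]
    have h2 := CharInd.indFun_res_eq N θ
    have h3 := congrFun h2 1
    simp only [OneMemClass.coe_one, h1, Pi.smul_apply, Finset.sum_apply, smul_eq_mul] at h3
    have h4 : ∀ x : G, CharInd.conjChar N x θ 1 = θ 1 := fun x => by
      rw [CharInd.conjChar_apply]; exact congrArg θ (Subtype.ext (by simp))
    simp only [h4, Finset.sum_const, Finset.card_univ, nsmul_eq_mul] at h3
    exact mul_ne_zero (inv_ne_zero (Nat.cast_ne_zero.2 Nat.card_pos.ne'))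
      (mul_ne_zero (Nat.cast_ne_zero.2 Fintype.card_ne_zero) (Char.irr_one_ne_zero hθ)) h3.symm
  have hcl := congrFun (CharInd.clifford N χ.2 hθ hχ) 1
  obtain ⟨e, he⟩ := Char.isCharacter_classInner_nat
    (CharInd.isCharacter_res N (Char.isCharacter_of_irr χ.2)) ⟨θ, hθ⟩
  change Cfsg.classInner (fun n : N => (χ : G → ℂ) n) θ = (e : ℂ) at he
  simp only [Pi.smul_apply, Finset.sum_apply, smul_eq_mul, OneMemClass.coe_one, he] at hcl
  have hval : ∀ φ ∈ CharInd.conjClass N θ, φ 1 = θ 1 := by
    intro φ hφ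
    obtain ⟨x, rfl⟩ := (CharInd.mem_conjClass N).1 hφ
    rw [CharInd.conjChar_apply]; exact congrArg θ (Subtype.ext (by simp))
  obtain ⟨d, -, hd⟩ := Char.irr_one_pos hθ
  rw [Finset.sum_congr rfl hval, Finset.sum_const, nsmul_eq_mul, hd, ← charDegree_eq] at hcl
  have hdeg : Cfsg.charDegree (χ : G → ℂ) = e * ((CharInd.conjClass N θ).card * d) := by
    exact_mod_cast hcl
  refine ⟨χ, le_antisymm ((Nat.factorization_le_iff_dvd (charDegree_pos χ).ne'
    Nat.card_pos.ne').2 (degree_dvd_card χ) p) ?_⟩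
  have hc0 : (CharInd.conjClass N θ).card ≠ 0 := fun h => by
    rw [h, zero_mul] at horb; exact Nat.card_pos.ne horb
  have h1 := (Nat.factorization_le_iff_dvd hc0 (charDegree_pos χ).ne').2
    ⟨e * d, by rw [hdeg]; ring⟩ p
  rw [← horb, Nat.factorization_mul hc0 Nat.card_pos.ne', Finsupp.add_apply,
    Nat.factorization_eq_zero_of_not_dvd hS, add_zero]
  exact h1

/-- An abelian normal subgroup with no non-trivial fixed point of an element of order `p`
forces a character of `p`-defect zero. -/
theorem exists_defectZero_of_fpf (V : Subgroup G) [V.Normal] (hVab : IsMulCommutative V)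
    (hV : V ≠ ⊥) (hfix : ∀ g : G, orderOf g = p → ∀ v ∈ V, Commute g v → v = 1) :
    ∃ χ : IrrCharacter G,
      (Cfsg.charDegree (χ : G → ℂ)).factorization p = (Nat.card G).factorization p := by
  obtain ⟨v, hv, hv1⟩ := V.bot_or_exists_ne_one.resolve_left hV
  obtain ⟨θ, hθ⟩ : ∃ θ : IrrCharacter V, (θ : V → ℂ) ⟨v, hv⟩ ≠ (θ : V → ℂ) 1 := by
    by_contra h
    push Not at h
    obtain ⟨c, hc⟩ := isConj_iff.1 (isConj_of_forall_irr_eq h).symm
    rw [mul_one, mul_inv_cancel] at hc
    exact hv1 (congrArg Subtype.val hc).symm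
  refine exists_defectZero_over V θ.2 fun g hg hfixed => hθ ?_
  obtain ⟨f, hf⟩ := Char.irr_exists_monoidHom_of_comm (fun a b => hVab.is_comm.comm a b) θ.2
  let φ : V → V := fun w => w⁻¹ * ⟨g * w * g⁻¹, ‹V.Normal›.conj_mem w w.2 g⟩
  have hφ : Function.Injective φ := by
    intro a b hab
    have h1 : a * b⁻¹ = 1 := by
      refine Subtype.ext (hfix g hg _ (a * b⁻¹).2 ?_)
      have h2 := congrArg Subtype.val hab
      simp only [φ, Subgroup.coe_mul, Subgroup.coe_inv] at h2
      have hcm : Commute (b : G) (a : G)⁻¹ :=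
        (show Commute (b : G) (a : G) from congrArg Subtype.val (hVab.is_comm.comm b a)).inv_right
      show g * ((a : G) * (b : G)⁻¹) = (a : G) * (b : G)⁻¹ * g
      have hcm' : Commute (b : G)⁻¹ (a : G) :=
        (show Commute (b : G) (a : G) from congrArg Subtype.val (hVab.is_comm.comm b a)).inv_left
      calc g * ((a : G) * (b : G)⁻¹) = (g * a * g⁻¹) * (g * b * g⁻¹)⁻¹ * g := by
            simp [mul_assoc]
        _ = (a : G) * ((a : G)⁻¹ * (g * a * g⁻¹)) * (g * b * g⁻¹)⁻¹ * g := by simp [mul_assoc]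
        _ = (a : G) * ((b : G)⁻¹ * (g * b * g⁻¹)) * (g * b * g⁻¹)⁻¹ * g := by rw [h2]
        _ = _ := by simp [mul_assoc]
    exact mul_inv_eq_one.1 h1
  obtain ⟨w, hw⟩ := (Finite.injective_iff_surjective.1 hφ) ⟨v, hv⟩
  have h1 := congrFun hfixed w
  rw [CharInd.conjChar_apply, hf, hf, Units.val_inj] at h1
  rw [hf, hf, ← hw, map_one, map_mul, map_inv, h1, inv_mul_cancel]

theorem prod_orbit_fixed {V : Type*} [CommGroup V] {A : Type*} [Group A] (c : A →* MulAut V)
    {a : A} {n : ℕ} (ha : a ^ n = 1) (v : V) :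
    c a (∏ i ∈ Finset.range n, c (a ^ i) v) = ∏ i ∈ Finset.range n, c (a ^ i) v := by
  rw [map_prod]
  have h : ∀ i, c a (c (a ^ i) v) = c (a ^ (i + 1)) v := fun i => by
    rw [← MulAut.mul_apply, ← map_mul, ← pow_succ']
  simp only [h]
  have h1 := Finset.prod_range_succ' (fun i => c (a ^ i) v) n
  have h2 := Finset.prod_range_succ (fun i => c (a ^ i) v) n
  rw [h1] at h2
  simp only [ha, pow_zero] at h2
  exact mul_right_cancel h2

/-- Two commuting elements of order `p` cannot act semiregularly unless they are dependent. -/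
theorem eq_one_of_two_fpf {V : Type*} [CommGroup V] {A : Type*} [Group A] (c : A →* MulAut V)
    {z w : A} (hzw : Commute z w) (hz : z ^ p = 1) (hw : w ^ p = 1)
    (h1 : ∀ j : ℕ, ∀ v : V, c (z * w ^ j) v = v → v = 1)
    (h2 : ∀ v : V, c w v = v → v = 1) (hV : ¬ p ∣ Nat.card V) [Finite V] (v : V) : v = 1 := by
  have hp : p.Prime := Fact.out
  have e1 : ∀ j : ℕ, ∏ i ∈ Finset.range p, c (z ^ i * (w ^ i) ^ j) v = 1 := fun j => by
    have hpow : ∀ i, z ^ i * (w ^ i) ^ j = (z * w ^ j) ^ i := fun i => by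
      rw [(hzw.pow_right j).mul_pow, ← pow_mul, ← pow_mul, Nat.mul_comm]
    simp only [hpow]
    refine h1 j _ (prod_orbit_fixed c ?_ v)
    rw [(hzw.pow_right j).mul_pow, hz, ← pow_mul, Nat.mul_comm, pow_mul, hw, one_pow, one_mul]
  have e2 : ∀ i ∈ Finset.range p, i ≠ 0 →
      ∏ j ∈ Finset.range p, c (z ^ i * (w ^ i) ^ j) v = 1 := by
    intro i hi hi0
    rw [Finset.mem_range] at hi
    have hcomm : ∀ j, z ^ i * (w ^ i) ^ j = (w ^ i) ^ j * z ^ i := fun j =>
      (((hzw.pow_pow i i)).pow_right j).eq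
    simp only [hcomm, map_mul, MulAut.mul_apply]
    apply h2
    have hwi : (w ^ i) ^ p = 1 := by rw [← pow_mul, Nat.mul_comm, pow_mul, hw, one_pow]
    have hfix := prod_orbit_fixed c hwi (c (z ^ i) v)
    obtain ⟨s, hs⟩ := exists_pow_eq_self_of_coprime (x := w) (n := i)
      (Nat.Coprime.coprime_dvd_right (orderOf_dvd_of_pow_eq_one hw)
        ((hp.coprime_iff_not_dvd.2 fun h => absurd (Nat.le_of_dvd (by omega) h) (by omega)).symm))
    have key : ∀ s : ℕ, c ((w ^ i) ^ s) (∏ j ∈ Finset.range p, c ((w ^ i) ^ j) (c (z ^ i) v)) =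
        ∏ j ∈ Finset.range p, c ((w ^ i) ^ j) (c (z ^ i) v) := by
      intro s
      induction s with
      | zero => simp
      | succ s ih => rw [pow_succ, map_mul, MulAut.mul_apply, hfix, ih]
    have h := key s
    rwa [hs] at h
  have h3 : ∏ i ∈ Finset.range p, ∏ j ∈ Finset.range p, c (z ^ i * (w ^ i) ^ j) v = 1 := by
    rw [Finset.prod_comm]
    exact Finset.prod_eq_one fun j _ => e1 j
  rw [Finset.prod_eq_single_of_mem 0 (Finset.mem_range.2 hp.pos) e2] at h3
  simp only [pow_zero, one_pow, mul_one, map_one, MulAut.one_apply, Finset.prod_const,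
    Finset.card_range] at h3
  by_contra hne
  exact hV (orderOf_eq_prime h3 hne ▸ orderOf_dvd_natCard v)

/-- In the presence of a normal `p'`-subgroup of order divisible by `q`, commuting elements of
order `p` are dependent. -/
theorem mem_zpowers_of_commute (H : PQFree p q G) {K : Subgroup G} [K.Normal]
    (hK : ¬ p ∣ Nat.card K) (hqK : q ∣ Nat.card K) {x y : G} (hx : orderOf x = p)
    (hy : orderOf y = p) (hxy : Commute x y) : x ∈ Subgroup.zpowers y := by
  by_contra hmem
  have hp : p.Prime := Fact.out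
  set E := Subgroup.zpowers y ⊔ Subgroup.zpowers x with hEdef
  have hE : IsPGroup p E := IsPGroup.to_sup_of_normal_left'
    (IsPGroup.of_card (n := 1) (by rw [Nat.card_zpowers, hy, pow_one]))
    (IsPGroup.of_card (n := 1) (by rw [Nat.card_zpowers, hx, pow_one]))
    (by
      rw [Subgroup.zpowers_le]
      refine Subgroup.centralizer_le_normalizer _ ?_
      rw [Subgroup.mem_centralizer_iff]
      intro b hb
      obtain ⟨i, rfl⟩ := Subgroup.mem_zpowers_iff.1 hb
      exact (hxy.symm.zpow_left i).eq)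
  let φ : E →* MulAut K := (MulAut.conjNormal : G →* MulAut K).comp E.subtype
  letI : MulAction E (Sylow q K) := MulAction.compHom (Sylow q K) φ
  obtain ⟨Q, hQ⟩ : ∃ Q : Sylow q K, Q ∈ MulAction.fixedPoints E (Sylow q K) := by
    by_contra hnone
    haveI : IsEmpty (MulAction.fixedPoints E (Sylow q K)) := ⟨fun Q => hnone ⟨Q.1, Q.2⟩⟩
    have h1 := hE.card_modEq_card_fixedPoints (α := Sylow q K)
    rw [Nat.card_of_isEmpty (α := MulAction.fixedPoints E (Sylow q K))] at h1
    obtain ⟨Q₀⟩ := (inferInstance : Nonempty (Sylow q K))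
    exact hK ((Nat.modEq_zero_iff_dvd.1 h1).trans
      ((Q₀.card_dvd_index).trans (Subgroup.index_dvd_card _)))
  have hQnt : Nontrivial (Q : Subgroup K) := by
    rw [← Finite.one_lt_card_iff_nontrivial]
    exact lt_of_lt_of_le (Fact.out : q.Prime).one_lt
      (Nat.le_of_dvd Nat.card_pos (Q.dvd_card_of_dvd_card hqK))
  haveI := Q.isPGroup'.center_nontrivial
  have hmemQ : ∀ e : E, ∀ k ∈ (Q : Subgroup K), φ e k ∈ (Q : Subgroup K) := by
    intro e k hk
    have h := congrArg Sylow.toSubgroup (hQ e)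
    rw [← h]
    exact Subgroup.smul_mem_pointwise_smul _ _ _ hk
  let V : Subgroup G := ((Subgroup.center (Q : Subgroup K)).map (Q : Subgroup K).subtype).map
    K.subtype
  have hVN : ∀ e : E, ∀ v ∈ V, (e : G) * v * (e : G)⁻¹ ∈ V := by
    rintro e v ⟨k, ⟨w, hw, rfl⟩, rfl⟩
    refine ⟨φ e w, ⟨⟨φ e w, hmemQ e _ w.2⟩, ?_, rfl⟩, ?_⟩
    · rw [SetLike.mem_coe, Subgroup.mem_center_iff]
      intro b
      refine Subtype.ext ?_
      have hb' := hmemQ e⁻¹ _ b.2
      have h := congrArg Subtype.val (Subgroup.mem_center_iff.1 hw ⟨_, hb'⟩)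
      have h' := congrArg (φ e) h
      simp only [Subgroup.coe_mul, map_mul, map_inv, MulEquiv.apply_symm_apply, MulAut.inv_apply_self,
        MulAut.apply_inv_self] at h'
      exact h'
    · show ((MulAut.conjNormal (e : G) (w : K) : K) : G) = _
      rw [MulAut.conjNormal_apply]
      rfl
  have hEV : E ≤ Subgroup.normalizer (V : Set G) := by
    intro e he
    rw [Subgroup.mem_normalizer_iff]
    refine fun v => ⟨hVN ⟨e, he⟩ v, fun h => ?_⟩
    simpa [mul_assoc] using hVN ⟨e, he⟩⁻¹ _ h
  have hVq : IsPGroup q V := ((Q.isPGroup'.to_subgroup _).map _).map _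
  haveI : IsMulCommutative V := ⟨⟨by
    rintro ⟨a, k, ⟨w, hw, rfl⟩, rfl⟩ ⟨b, l, ⟨w', hw', rfl⟩, rfl⟩
    exact Subtype.ext (congrArg (fun u : (Q : Subgroup K) => ((u : K) : G))
      (Subgroup.mem_center_iff.1 hw' w))⟩⟩
  letI : CommGroup V := { (inferInstance : Group V) with mul_comm := mul_comm' }
  let c : E →* MulAut V := (V.normalizerMonoidHom).comp (Subgroup.inclusion hEV)
  have hfix : ∀ e : E, (e : G) ^ p = 1 → (e : G) ≠ 1 → ∀ v : V, c e v = v → v = 1 := by
    intro e he he1 v hv
    obtain ⟨k, hk⟩ := IsPGroup.iff_orderOf.1 hVq v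
    refine Subtype.ext (H.eq_one he he1 (k := k) (by rw [Subgroup.orderOf_coe, hk]) ?_)
    exact mul_inv_eq_iff_eq_mul.1 (congrArg Subtype.val hv)
  have hxE : x ∈ E := Subgroup.mem_sup_right (Subgroup.mem_zpowers x)
  have hyE : y ∈ E := Subgroup.mem_sup_left (Subgroup.mem_zpowers y)
  have hxp : x ^ p = 1 := hx ▸ pow_orderOf_eq_one x
  have hyp : y ^ p = 1 := hy ▸ pow_orderOf_eq_one y
  have hVp : ¬ p ∣ Nat.card V := fun h =>
    hK (h.trans (Subgroup.card_dvd_of_le (Subgroup.map_subtype_le _)))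
  have htriv : ∀ v : V, v = 1 := fun v =>
    eq_one_of_two_fpf c (z := ⟨x, hxE⟩) (w := ⟨y, hyE⟩) (Subtype.ext hxy.eq) (Subtype.ext hxp)
      (Subtype.ext hyp)
      (fun j v hv => hfix _ (by
        show (x * y ^ j) ^ p = 1
        rw [(hxy.pow_right j).mul_pow, hxp, ← pow_mul, Nat.mul_comm, pow_mul, hyp, one_pow, one_mul])
        (fun h => hmem (by
          have h' : x * y ^ j = 1 := h
          rw [eq_inv_of_mul_eq_one_left h']
          exact inv_mem (Subgroup.npow_mem_zpowers y j))) v hv)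
      (fun v hv => hfix _ hyp (fun h => by
        rw [show y = 1 from h, orderOf_one] at hy; exact hp.ne_one hy.symm) v hv) hVp v
  obtain ⟨w, hw⟩ := exists_ne (1 : Subgroup.center (Q : Subgroup K))
  have h : (((w : (Q : Subgroup K)) : K) : G) = 1 := congrArg Subtype.val
    (htriv ⟨((((w : (Q : Subgroup K)) : K)) : G), ⟨_, ⟨_, w.2, rfl⟩, rfl⟩⟩)
  refine hw ?_
  ext
  simpa using h

/-- The main step: `G` is `p`-solvable. -/
theorem exists_defectZero_of_pSolvable (H : PQFree p q G) (hpq : p ≠ q) (hpG : p ∣ Nat.card G)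
    (hsolv : Cfsg.IsPSolvable p G) :
    (∃ χ : IrrCharacter G,
      (Cfsg.charDegree (χ : G → ℂ)).factorization p = (Nat.card G).factorization p) ∨
    (∃ χ : IrrCharacter G,
      (Cfsg.charDegree (χ : G → ℂ)).factorization q = (Nat.card G).factorization q) := by
  classical
  have hp : p.Prime := Fact.out
  haveI : Nonempty {K : Subgroup G // K.Normal ∧ ¬ p ∣ Nat.card K} :=
    ⟨⟨⊥, inferInstance, by rw [Subgroup.card_bot]; exact hp.not_dvd_one⟩⟩
  obtain ⟨⟨K, hKn, hK⟩, hmax⟩ := Finite.exists_max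
    (fun K : {K : Subgroup G // K.Normal ∧ ¬ p ∣ Nat.card K} => Nat.card K.1)
  haveI := hKn
  let π := QuotientGroup.mk' K
  have hπ : Function.Surjective π := QuotientGroup.mk'_surjective K
  have hKt : K ≠ ⊤ := fun h => hK (h ▸ Subgroup.card_top (G := G) ▸ hpG)
  -- a non-trivial normal `p`-subgroup of the quotient
  obtain ⟨R, hRn, hRp, hR1⟩ : ∃ R : Subgroup (G ⧸ K), R.Normal ∧ IsPGroup p R ∧ R ≠ ⊥ := by
    obtain ⟨n, F, hF0, hFn, hFmono, hFnorm, hFi⟩ := hsolv
    obtain ⟨i, hi, hi'⟩ : ∃ i : Fin n, F i.castSucc ≤ K ∧ ¬ F i.succ ≤ K := by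
      by_contra hcon
      push Not at hcon
      refine hKt (eq_top_iff.2 (hFn ▸ ?_))
      exact Fin.induction (motive := fun j => F j ≤ K) (hF0 ▸ bot_le) hcon (Fin.last n)
    let R := (F i.succ).map π
    have hRn : R.Normal := (hFnorm i.succ).map π hπ
    have hne : R ≠ ⊥ := by
      rw [Ne, Subgroup.map_eq_bot_iff, QuotientGroup.ker_mk']
      exact hi'
    have hdvd : Nat.card R ∣ (F i.castSucc).relIndex (F i.succ) := by
      have := Subgroup.relIndex_ker (K := F i.succ) π
      rw [QuotientGroup.ker_mk'] at this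
      rw [← this]
      exact Subgroup.relIndex_dvd_of_le_left _ hi
    rcases hFi i with ⟨m, hm⟩ | hcop
    · refine ⟨R, hRn, ?_, hne⟩
      obtain ⟨k, -, hk⟩ := (Nat.dvd_prime_pow hp).1 (hm ▸ hdvd)
      exact IsPGroup.of_card hk
    · exfalso
      let L := R.comap π
      have hLn : L.Normal := hRn.comap π
      have hLcard : Nat.card L = Nat.card K * Nat.card R := by
        refine Nat.eq_of_mul_eq_mul_right (Nat.pos_of_ne_zero
          (Subgroup.index_ne_zero_of_finite (H := L))) ?_
        have e : L.index = R.index := R.index_comap_of_surjective hπ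
        conv_rhs => rw [e, mul_assoc, Subgroup.card_mul_index]
        rw [Subgroup.card_mul_index, ← Subgroup.card_mul_index K]
        rfl
      have hLp : ¬ p ∣ Nat.card L := by
        rw [hLcard, hp.dvd_mul]
        rintro (h | h)
        · exact hK h
        · exact hp.ne_one (Nat.dvd_one.1 (hcop.symm.gcd_eq_one ▸
            Nat.dvd_gcd dvd_rfl (h.trans hdvd)))
      have h2 : Nat.card L ≤ Nat.card K := hmax ⟨L, hLn, hLp⟩
      rw [hLcard] at h2
      have h3 : 1 < Nat.card R := (Subgroup.one_lt_card_iff_ne_bot _).2 hne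
      have h4 : 0 < Nat.card K := Nat.card_pos
      nlinarith
  by_cases hqK : q ∣ Nat.card K
  · -- a character of `K` moved by every element of order `p`
    left
    obtain ⟨P⟩ := (inferInstance : Nonempty (Sylow p G))
    haveI : Nontrivial (P : Subgroup G) := by
      rw [← Finite.one_lt_card_iff_nontrivial]
      exact lt_of_lt_of_le hp.one_lt (Nat.le_of_dvd Nat.card_pos (P.dvd_card_of_dvd_card hpG))
    haveI := P.isPGroup'.center_nontrivial
    have hpZ : p ∣ Nat.card (Subgroup.center (P : Subgroup G)) := by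
      obtain ⟨n, hn⟩ := IsPGroup.iff_card.1 (P.isPGroup'.to_subgroup (Subgroup.center _))
      rcases Nat.eq_zero_or_pos n with h0 | h0
      · have h1 : 1 < Nat.card (Subgroup.center (P : Subgroup G)) := Finite.one_lt_card
        rw [hn, h0, pow_zero] at h1
        exact absurd h1 (lt_irrefl 1)
      · exact hn ▸ dvd_pow_self p h0.ne'
    obtain ⟨z, hz⟩ := exists_prime_orderOf_dvd_card' p hpZ
    set c : G := ((z : (P : Subgroup G)) : G) with hcdef
    have hc : orderOf c = p := by rw [hcdef, Subgroup.orderOf_coe, Subgroup.orderOf_coe, hz]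
    have hcP : c ∈ (P : Subgroup G) := (z : (P : Subgroup G)).2
    have hcentral : ∀ g ∈ (P : Subgroup G), Commute g c := fun g hg =>
      congrArg Subtype.val (Subgroup.mem_center_iff.1 z.2 ⟨g, hg⟩)
    have huniq : ∀ g ∈ (P : Subgroup G), orderOf g = p → g ∈ Subgroup.zpowers c := fun g hg ho =>
      mem_zpowers_of_commute H hK hqK ho hc (hcentral g hg)
    have hinj : ∀ g ∈ (P : Subgroup G), g ∈ K → g = 1 := by
      intro g hg hgK
      obtain ⟨k, hk⟩ := IsPGroup.iff_orderOf.1 P.isPGroup' ⟨g, hg⟩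
      rw [Subgroup.orderOf_mk] at hk
      rcases Nat.eq_zero_or_pos k with h0 | h0
      · exact orderOf_eq_one_iff.1 (by rw [hk, h0, pow_zero])
      · exact absurd ((hk ▸ dvd_pow_self p h0.ne').trans (Subgroup.orderOf_dvd_natCard _ hgK)) hK
    have hRP : ∀ Q : Sylow p G, R ≤ (Q : Subgroup G).map π := by
      intro Q
      obtain ⟨T, hT⟩ := hRp.exists_le_sylow
      obtain ⟨g, hg⟩ := MulAction.exists_smul_eq (G ⧸ K) T (Q.mapSurjective hπ)
      rw [← Sylow.coe_mapSurjective hπ, ← hg, Sylow.coe_subgroup_smul]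
      intro r hr
      rw [Subgroup.mem_pointwise_smul_iff_inv_smul_mem]
      refine hT ?_
      simpa [MulAut.smul_def, mul_assoc] using hRn.conj_mem r hr g⁻¹
    -- `c` lies over `R`
    have hcR : π c ∈ R := by
      haveI : Nontrivial R := (Subgroup.nontrivial_iff_ne_bot R).2 hR1
      have hpR : p ∣ Nat.card R := by
        obtain ⟨n, hn⟩ := IsPGroup.iff_card.1 hRp
        rcases Nat.eq_zero_or_pos n with h0 | h0
        · have h1 : 1 < Nat.card R := Finite.one_lt_card
          rw [hn, h0, pow_zero] at h1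
          exact absurd h1 (lt_irrefl 1)
        · exact hn ▸ dvd_pow_self p h0.ne'
      obtain ⟨r, hr⟩ := exists_prime_orderOf_dvd_card' p hpR
      obtain ⟨g, hgP, hg⟩ := hRP P r.2
      have hgp : g ^ p = 1 := hinj _ (Subgroup.pow_mem _ hgP _) ((QuotientGroup.eq_one_iff _).1 (by
        change π (g ^ p) = 1
        rw [map_pow, hg, ← Subgroup.coe_pow, ← hr, pow_orderOf_eq_one, Subgroup.coe_one]))
      have hg1 : g ≠ 1 := fun h => hp.ne_one (by
        rw [← hr, ← Subgroup.orderOf_coe, ← hg, h, map_one, orderOf_one])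
      obtain ⟨i, hi⟩ := Subgroup.mem_zpowers_iff.1 (huniq g hgP (orderOf_eq_prime hgp hg1))
      have hc' : c ∈ Subgroup.zpowers g := by
        have hsub : Subgroup.zpowers g = Subgroup.zpowers c := Subgroup.eq_of_le_of_card_ge
          (Subgroup.zpowers_le.2 (Subgroup.mem_zpowers_iff.2 ⟨i, hi⟩))
          (by rw [Nat.card_zpowers, Nat.card_zpowers, hc, orderOf_eq_prime hgp hg1])
        rw [hsub]; exact Subgroup.mem_zpowers c
      obtain ⟨j, hj⟩ := Subgroup.mem_zpowers_iff.1 hc'
      rw [← hj, map_zpow, hg]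
      exact R.zpow_mem r.2 j
    -- every element of order `p` generates `c` modulo `K`
    have hall : ∀ x : G, orderOf x = p → c ∈ K ⊔ Subgroup.zpowers x := by
      intro x hx
      have hxR : π x ∈ R := by
        obtain ⟨Q, hQ⟩ := (IsPGroup.of_card (n := 1) (G := Subgroup.zpowers x)
          (by rw [Nat.card_zpowers, hx, pow_one])).exists_le_sylow
        obtain ⟨g, hg⟩ := MulAction.exists_smul_eq G Q P
        have hxg : g * x * g⁻¹ ∈ (P : Subgroup G) := by
          rw [← hg, Sylow.coe_subgroup_smul]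
          exact Subgroup.smul_mem_pointwise_smul _ (MulAut.conj g) _ (hQ (Subgroup.mem_zpowers x))
        obtain ⟨i, hi⟩ := Subgroup.mem_zpowers_iff.1 (huniq _ hxg (by
          rw [← MulAut.conj_apply]; exact ((MulAut.conj g).orderOf_eq x).trans hx))
        have h1 : π x = (π g)⁻¹ * (π c) ^ i * π g := by
          rw [← map_zpow, hi]; simp [mul_assoc]
        rw [h1]
        simpa using hRn.conj_mem _ (R.zpow_mem hcR i) (π g)⁻¹
      obtain ⟨u, huP, hu⟩ := hRP P hxR
      have hxK : x ∉ K := fun h => hK (hx ▸ Subgroup.orderOf_dvd_natCard _ h)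
      have hup : u ^ p = 1 := hinj _ (Subgroup.pow_mem _ huP _) ((QuotientGroup.eq_one_iff _).1 (by
        change π (u ^ p) = 1
        rw [map_pow, hu, ← map_pow, ← hx, pow_orderOf_eq_one, map_one]))
      have hu1 : u ≠ 1 := fun h => hxK ((QuotientGroup.eq_one_iff _).1 (by
        change π x = 1; rw [← hu, h, map_one]))
      have hz : Subgroup.zpowers u = Subgroup.zpowers c := Subgroup.eq_of_le_of_card_ge
        (Subgroup.zpowers_le.2 (huniq u huP (orderOf_eq_prime hup hu1)))
        (by rw [Nat.card_zpowers, Nat.card_zpowers, hc, orderOf_eq_prime hup hu1])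
      obtain ⟨j, hj⟩ := Subgroup.mem_zpowers_iff.1 (hz ▸ Subgroup.mem_zpowers c)
      have h1 : (x ^ j)⁻¹ * c ∈ K := (QuotientGroup.eq_one_iff _).1 (by
        change π ((x ^ j)⁻¹ * c) = 1
        rw [map_mul, map_inv, map_zpow, ← hu, ← map_zpow, hj, inv_mul_cancel])
      have h2 := Subgroup.mul_mem (K ⊔ Subgroup.zpowers x)
        (Subgroup.mem_sup_right (Subgroup.zpow_mem _ (Subgroup.mem_zpowers x) j))
        (Subgroup.mem_sup_left h1)
      rwa [mul_inv_cancel_left] at h2
    obtain ⟨y, hy⟩ := exists_prime_orderOf_dvd_card' q hqK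
    obtain ⟨θ, hθ⟩ : ∃ θ : IrrCharacter K, CharInd.conjChar K c (θ : K → ℂ) ≠ (θ : K → ℂ) := by
      by_contra hcon
      push Not at hcon
      letI := Fintype.ofFinite G
      letI := Fintype.ofFinite K
      let T := {w : K // IsConj y w}
      let ψ : MulAut K := MulAut.conjNormal c
      have hy' : IsConj y (ψ y) := isConj_of_forall_irr_eq fun θ => by
        have h := congrFun (hcon θ) y
        rw [CharInd.conjChar_apply] at h
        exact h.symm
      let f : Function.End T := fun w => ⟨ψ w.1, hy'.trans (ψ.toMonoidHom.map_isConj w.2)⟩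
      have hfit : ∀ (n : ℕ) (w : T), (((f ^ n) w).1 : G) = c ^ n * (w.1 : G) * (c ^ n)⁻¹ := by
        intro n
        induction n with
        | zero =>
          intro w
          show ((w.1 : K) : G) = _
          simp
        | succ n ih =>
          intro w
          rw [pow_succ']
          show ((ψ ((f ^ n) w).1 : K) : G) = _
          rw [MulAut.conjNormal_apply, ih]
          simp [pow_succ', mul_assoc]
      have hf : f ^ p ^ 1 = 1 := by
        funext w
        refine Subtype.ext (Subtype.ext ?_)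
        rw [hfit, pow_one, ← hc, pow_orderOf_eq_one, one_mul, inv_one, mul_one]
        rfl
      have hmod := Equiv.Perm.card_fixedPoints_modEq (p := p) (f := f) hf
      have hne : ¬ IsEmpty (Function.fixedPoints f) := fun hemp => by
        haveI := hemp
        rw [Fintype.card_eq_zero (α := Function.fixedPoints f), Nat.modEq_zero_iff_dvd] at hmod
        refine hK (hmod.trans ?_)
        rw [show Fintype.card T = (Subgroup.centralizer ({y} : Set K)).index by
          rw [← Char.card_isConj_eq_index, Fintype.card_subtype]; congr!]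
        exact Subgroup.index_dvd_card _
      obtain ⟨⟨w, hwf⟩⟩ := not_isEmpty_iff.1 hne
      obtain ⟨d, hd⟩ := isConj_iff.1 w.2
      have hwo : orderOf ((w.1 : K) : G) = q := by
        rw [Subgroup.orderOf_coe, ← hd, ← MulAut.conj_apply]
        exact ((MulAut.conj d).orderOf_eq y).trans hy
      refine H c _ hc hwo ?_
      have h : f w = w := hwf
      exact mul_inv_eq_iff_eq_mul.1 (congrArg (fun v : T => ((v.1 : K) : G)) h)
    refine exists_defectZero_over K θ.2 fun x hx hfixed => hθ ?_
    let S : Subgroup G :=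
      { carrier := {g | CharInd.conjChar K g (θ : K → ℂ) = (θ : K → ℂ)}
        one_mem' := CharInd.conjChar_one K _
        mul_mem' := fun {a b} ha hb => by
          show CharInd.conjChar K (a * b) _ = _
          rw [CharInd.conjChar_mul, show CharInd.conjChar K a _ = _ from ha,
            show CharInd.conjChar K b _ = _ from hb]
        inv_mem' := fun {a} ha => by
          show CharInd.conjChar K a⁻¹ (θ : K → ℂ) = _
          conv_lhs => rw [← show CharInd.conjChar K a (θ : K → ℂ) = _ from ha]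
          rw [← CharInd.conjChar_mul, mul_inv_cancel, CharInd.conjChar_one] }
    have hKS : K ≤ S := fun k hk =>
      CharInd.conjChar_isClassFunction_mem K (Char.irr_isClassFunction θ.2) ⟨k, hk⟩
    exact (sup_le hKS (Subgroup.zpowers_le.2 (show x ∈ S from hfixed)) : _ ≤ S) (hall x hx)
  · -- inflate a character of `q`-defect zero of the quotient
    right
    let Z : Subgroup (G ⧸ K) := (Subgroup.center R).map R.subtype
    haveI : Z.Normal := ⟨by
      rintro _ ⟨w, hw, rfl⟩ g
      haveI := hRn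
      refine ⟨MulAut.conjNormal g w, ?_, by rw [Subgroup.coe_subtype, MulAut.conjNormal_apply]⟩
      rw [SetLike.mem_coe, Subgroup.mem_center_iff]
      intro b
      have h := congrArg (MulAut.conjNormal g : MulAut R)
        (Subgroup.mem_center_iff.1 hw ((MulAut.conjNormal g : MulAut R).symm b))
      simpa using h⟩
    haveI : Nontrivial R := (Subgroup.nontrivial_iff_ne_bot R).2 hR1
    haveI := hRp.center_nontrivial
    have hZ : Z ≠ ⊥ := by
      obtain ⟨w, hw⟩ := exists_ne (1 : Subgroup.center R)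
      intro h
      refine hw (Subtype.ext (Subtype.ext ?_))
      exact Subgroup.mem_bot.1 (h ▸ (⟨_, w.2, rfl⟩ : ((w : R) : G ⧸ K) ∈ Z))
    have hZab : IsMulCommutative Z := ⟨⟨by
      rintro ⟨a, w, hw, rfl⟩ ⟨b, w', hw', rfl⟩
      exact Subtype.ext (congrArg (fun u : R => (u : G ⧸ K)) (Subgroup.mem_center_iff.1 hw' w))⟩⟩
    obtain ⟨χ, hχ⟩ := exists_defectZero_of_fpf (p := q) Z hZab hZ fun g hg v hv hgv => by
      obtain ⟨w, hw, rfl⟩ := hv
      obtain ⟨k, hk⟩ := IsPGroup.iff_orderOf.1 hRp w
      refine (H.symm.quotient hpq.symm K).eq_one (hg ▸ pow_orderOf_eq_one g)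
        (fun h => (Fact.out : q.Prime).ne_one (by rw [← hg, h, orderOf_one])) (k := k) ?_ hgv
      exact (Subgroup.orderOf_coe w).trans hk
    refine ⟨⟨_, CharInd.irr_comp_surjective π hπ χ.2⟩, ?_⟩
    have hdeg : Cfsg.charDegree (fun g => (χ : G ⧸ K → ℂ) (π g)) =
        Cfsg.charDegree (χ : G ⧸ K → ℂ) := by simp [Cfsg.charDegree]
    rw [hdeg, hχ]
    have h := Subgroup.card_mul_index K
    rw [show Nat.card (G ⧸ K) = K.index from rfl, ← h,
      Nat.factorization_mul Nat.card_pos.ne' Subgroup.index_ne_zero_of_finite,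
      Finsupp.add_apply, Nat.factorization_eq_zero_of_not_dvd hqK, zero_add]

end Cfsg.Agent.BlocksChar
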